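import Groth.Agent.L19.ZClos.Basic

/-!
# Criteria for purity and closedness along a subset
-/

set_option autoImplicit false
set_option linter.style.haveILetI false
set_option backward.isDefEq.respectTransparency.types false
set_option backward.isDefEq.respectTransparency false

universe u

open CategoryTheory CategoryTheory.Limits AlgebraicGeometry TopologicalSpace Opposite

noncomputable section

namespace Groth.L19.ZClos

open _root_.ZClos
open Groth.L18.Frame (rs rs_rs rs_self)
open Groth.L21.Mod (stalkF stalkF_map_germ)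

variable {X : Scheme.{u}} {Z : Set X} (F : X.Modules)

theorem mono_of_app_injective {P Q : X.Modules} (φ : P ⟶ Q) (h : ∀ V : X.Opens, Function.Injective (φ.app V)) :
    Mono φ :=
  (Groth.L21.Mod.mono_iff_stalk_injective φ).2 fun x =>
    TopCat.Presheaf.stalkFunctor_map_injective_of_app_injective (f := (Scheme.Modules.toPresheaf X).map φ) h x

theorem app_injective_of_mono {P Q : X.Modules} (φ : P ⟶ Q) [Mono φ] (V : X.Opens) :
    Function.Injective (φ.app V) := fun a b h => section_ext fun x hx =>
  (Groth.L21.Mod.mono_iff_stalk_injective φ).1 inferInstance x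
    (((stalkF_map_germ φ V x hx a).trans (congrArg (Q.presheaf.germ V x hx) h)).trans
      (stalkF_map_germ φ V x hx b).symm)

theorem app_bijective_of_isIso {P Q : X.Modules} (φ : P ⟶ Q) [IsIso φ] (V : X.Opens) :
    Function.Bijective (φ.app V) := by
  haveI := Scheme.Modules.Hom.isIso_iff_isIso_app.1 ‹IsIso φ› V
  exact (ConcreteCategory.isIso_iff_bijective _).1 this

/-- The restriction to the complement of a member of the index. -/
abbrev res (T : Cl Z) (V : X.Opens) : Γ(F, V) → Γ(F, V ⊓ T.U) :=
  F.presheaf.map (homOfLE (inf_le_left : V ⊓ T.U ≤ V)).op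

theorem toDiagram_app_eq (T : Cl Z) (V : X.Opens) :
    ((toDiagram Z F T).app V : Γ(F, V) → Γ(((diagram Z).obj F).obj T, V)) =
      (fun r => rs F ((image_eq T V).trans (inf_comm T.U V)).le r) ∘ res F T V := by
  funext s
  exact (rs_rs F (inf_le_left : V ⊓ T.U ≤ V) ((image_eq T V).trans (inf_comm T.U V)).le s).symm

theorem bijective_rs {U V : X.Opens} (h : U = V) :
    Function.Bijective (fun r : Γ(F, V) => rs F h.le r) := by
  subst h
  exact ⟨fun a b hab => by simpa [rs_self] using hab, fun a => ⟨a, rs_self F _ a⟩⟩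

theorem toDiagram_injective_iff (T : Cl Z) (V : X.Opens) :
    Function.Injective ((toDiagram Z F T).app V) ↔ Function.Injective (res F T V) := by
  rw [show ((toDiagram Z F T).app V : Γ(F, V) → Γ(((diagram Z).obj F).obj T, V)) = _ from toDiagram_app_eq F T V]
  exact (bijective_rs F ((image_eq T V).trans (inf_comm T.U V))).1.of_comp_iff _

theorem toDiagram_bijective_iff (T : Cl Z) (V : X.Opens) :
    Function.Bijective ((toDiagram Z F T).app V) ↔ Function.Bijective (res F T V) := by
  rw [show ((toDiagram Z F T).app V : Γ(F, V) → Γ(((diagram Z).obj F).obj T, V)) = _ from toDiagram_app_eq F T V]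
  exact (bijective_rs F ((image_eq T V).trans (inf_comm T.U V))).of_comp_iff' _

/-- Purity, tested on the members of the index. -/
theorem isZPure_iff : IsZPure Z F ↔ ∀ T : Cl Z, Mono (toDiagram Z F T) := by
  refine ⟨fun h T => ?_, fun h => ?_⟩
  · haveI : Mono (toDiagram Z F T ≫ colimit.ι ((diagram Z).obj F) T) := rhoApp_eq Z F T ▸ h
    exact mono_of_mono _ (colimit.ι ((diagram Z).obj F) T)
  · refine mono_of_app_injective _ fun V => (injective_iff_map_eq_zero _).2 fun s hs => ?_
    refine section_ext fun x hx => ?_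
    rw [map_zero]
    haveI : PreservesColimitsOfSize.{u, u} (stalkF X x) := Groth.L00.Stk.preservesColimits_stalkF x
    let hS := isColimitOfPreserves (stalkF X x) (colimit.isColimit ((diagram Z).obj F))
    let z : (stalkF X x).obj F := F.presheaf.germ V x hx s
    have hz : (stalkF X x).map (colimit.ι ((diagram Z).obj F) ⊥) ((stalkF X x).map (toDiagram Z F ⊥) z) = 0 := by
      refine (congr($((stalkF X x).map_comp (toDiagram Z F ⊥) (colimit.ι ((diagram Z).obj F) ⊥)) z)).symm.trans ?_
      rw [← rhoApp_eq Z F ⊥]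
      exact (stalkF_map_germ _ V x hx s).trans ((congrArg _ hs).trans (map_zero _))
    obtain ⟨T', f, g, hfg⟩ := (Concrete.isColimit_rep_eq_iff_exists _ hS
      (i := ⊥) (j := ⊥) ((stalkF X x).map (toDiagram Z F ⊥) z) 0).1 (hz.trans (map_zero _).symm)
    rw [map_zero] at hfg
    have hT : (stalkF X x).map (toDiagram Z F T') z = 0 := by
      rw [← toDiagram_map Z F f]
      exact (congr($((stalkF X x).map_comp (toDiagram Z F ⊥) (((diagram Z).obj F).map f)) z)).trans hfg
    exact (Groth.L21.Mod.mono_iff_stalk_injective (toDiagram Z F T')).1 (h T') x (hT.trans (map_zero _).symm)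

/-- Closedness, tested on the members of the index. -/
theorem isZClosed_iff : IsZClosed Z F ↔ ∀ T : Cl Z, IsIso (toDiagram Z F T) := by
  refine ⟨fun h T => ?_, fun h => ?_⟩
  · haveI : IsIso (rhoApp Z F) := h
    haveI : Mono (toDiagram Z F T) := (isZPure_iff F).1 (show Mono (rhoApp Z F) from inferInstance) T
    rw [Groth.L21.Mod.isIso_iff_stalk_bijective]
    intro x
    refine ⟨(Groth.L21.Mod.mono_iff_stalk_injective _).1 inferInstance x, fun a => ?_⟩
    obtain ⟨W, hxW, r, rfl⟩ := TopCat.Presheaf.exists_germ_eq (((diagram Z).obj F).obj T).presheaf a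
    obtain ⟨f, hf⟩ := (app_bijective_of_isIso (rhoApp Z F) W).2 ((colimit.ι ((diagram Z).obj F) T).app W r)
    refine ⟨F.presheaf.germ W x hxW f, ?_⟩
    rw [stalkF_map_germ]
    refine congrArg ((((diagram Z).obj F).obj T).presheaf.germ W x hxW) ?_
    refine (bijective_rs F (image_eq T W).symm).1 (section_ext fun y hy => ?_)
    show F.presheaf.germ _ y hy (rs F (image_eq T W).ge (rs F (T.U.ι.image_preimage_le W) f)) = _
    rw [germ_rs', germ_rs']
    refine ((Groth.L21.Mod.isIso_iff_stalk_bijective (rhoApp Z F)).1 inferInstance y).1 ?_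
    refine Eq.trans ?_ (germ_ι F T r hy)
    rw [stalkF_map_germ]
    exact congrArg _ hf
  · haveI : Mono (rhoApp Z F) := (isZPure_iff F).2 fun T => by haveI := h T; infer_instance
    show IsIso (rhoApp Z F)
    rw [Groth.L21.Mod.isIso_iff_stalk_bijective]
    intro x
    refine ⟨(Groth.L21.Mod.mono_iff_stalk_injective _).1 inferInstance x, fun a => ?_⟩
    obtain ⟨T, W, hxW, r, rfl⟩ := exists_rep F x a
    haveI := h T
    obtain ⟨f, hf⟩ := (app_bijective_of_isIso (toDiagram Z F T) W).2 r
    refine ⟨F.presheaf.germ W x hxW f, (stalkF_map_germ _ W x hxW f).trans ?_⟩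
    rw [rhoApp_eq Z F T, ← hf]
    rfl

/-- Purity, tested on restrictions of sections. -/
theorem isZPure_iff_res : IsZPure Z F ↔ ∀ (T : Cl Z) (V : X.Opens), Function.Injective (res F T V) := by
  rw [isZPure_iff]
  refine forall_congr' fun T => ⟨fun h V => ?_, fun h => ?_⟩
  · exact (toDiagram_injective_iff F T V).1 (app_injective_of_mono _ V)
  · exact mono_of_app_injective _ fun V => (toDiagram_injective_iff F T V).2 (h V)

/-- Purity, tested on a basis. -/
theorem isZPure_iff_basis {B : Set X.Opens} (hB : Opens.IsBasis B) :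
    IsZPure Z F ↔ ∀ (T : Cl Z), ∀ V ∈ B, Function.Injective (res F T V) := by
  refine ⟨fun h T V _ => (isZPure_iff_res F).1 h T V, fun h => (isZPure_iff_res F).2 fun T V s t hst => ?_⟩
  refine section_ext fun x hx => ?_
  obtain ⟨D, hD, hxD, hDV⟩ := Opens.isBasis_iff_nbhd.1 hB hx
  have h1 : res F T D (rs F hDV s) = res F T D (rs F hDV t) := by
    show rs F inf_le_left (rs F hDV s) = rs F inf_le_left (rs F hDV t)
    have := congrArg (rs F (inf_le_inf_right T.U hDV)) hst
    change rs F _ (rs F inf_le_left s) = rs F _ (rs F inf_le_left t) at this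
    rw [rs_rs, rs_rs] at this
    rw [rs_rs, rs_rs]
    exact this
  rw [← germ_rs' hDV hxD s, ← germ_rs' hDV hxD t, h T D hD h1]

/-- Closedness, tested on restrictions of sections. -/
theorem isZClosed_iff_res : IsZClosed Z F ↔ ∀ (T : Cl Z) (V : X.Opens), Function.Bijective (res F T V) := by
  rw [isZClosed_iff]
  refine forall_congr' fun T => ⟨fun h V => ?_, fun h => ?_⟩
  · exact (toDiagram_bijective_iff F T V).1 (app_bijective_of_isIso _ V)
  · rw [Groth.L21.Mod.isIso_iff_stalk_bijective]
    exact fun x => Groth.L19.FPExtend.bijective_stalk_of_basis (toDiagram Z F T) (O := ⊤) X.isBasis_affineOpens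
      (fun D _ _ => (toDiagram_bijective_iff F T D).2 (h D)) trivial

/-- Closedness, tested on a basis. -/
theorem isZClosed_iff_basis {B : Set X.Opens} (hB : Opens.IsBasis B) :
    IsZClosed Z F ↔ ∀ (T : Cl Z), ∀ V ∈ B, Function.Bijective (res F T V) := by
  refine ⟨fun h T V _ => (isZClosed_iff_res F).1 h T V, fun h => (isZClosed_iff F).2 fun T => ?_⟩
  rw [Groth.L21.Mod.isIso_iff_stalk_bijective]
  exact fun x => Groth.L19.FPExtend.bijective_stalk_of_basis (toDiagram Z F T) (O := ⊤) hB
    (fun D hD _ => (toDiagram_bijective_iff F T D).2 (h T D hD)) trivial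

end Groth.L19.ZClos
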