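import Groth.Agent.L19.ZClos.Lift
import Groth.Agent.L19.Ass.Basic
import Groth.Agent.L20.ModStalk
import Groth.Agent.L03.QcOpenExtend
import Groth.Agent.L29.Sib.SkyInj
import Groth.Prelude.Def_EGA4b
import Groth.Prelude.Def_EGA4c
import Mathlib.RingTheory.Ideal.AssociatedPrime.Basic

/-!
# The height-one hull of a quotient inside the sections of a closure
-/

set_option autoImplicit false
set_option linter.style.haveILetI false
set_option backward.isDefEq.respectTransparency.types false
set_option backward.isDefEq.respectTransparency false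

universe u

open CategoryTheory CategoryTheory.Limits AlgebraicGeometry TopologicalSpace Opposite

noncomputable section

namespace Groth.L19.ZClos

open _root_.ZClos
open Groth.L21.Mod (stalkF stalkF_map_germ)

variable {R : CommRingCat.{u}}

/-- A tilde of a linear map is bijective on a stalk where the map is injective and surjective up to denominators. -/
theorem bijective_stalk_tilde {P Q : ModuleCat.{u} R} (i : P ⟶ Q) (y : PrimeSpectrum.Top R)
    (hi : Function.Injective i.hom) (hs : ∀ m : Q, ∃ t ∉ y.asIdeal, ∃ b : P, i.hom b = t • m) :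
    Function.Bijective ((stalkF (Spec R) y).map (tilde.map i)) := by
  letI : Algebra R ((Spec R).presheaf.stalk y) :=
    (inferInstance : Algebra R ((AlgebraicGeometry.structurePresheafInCommRingCat R).stalk y))
  haveI hT : ∀ N : ModuleCat.{u} R, IsScalarTower R ((Spec R).presheaf.stalk y) ((tilde N).presheaf.stalk y) :=
    fun N => inferInstanceAs (IsScalarTower R ((AlgebraicGeometry.structurePresheafInCommRingCat R).stalk y)
      ↑(TopCat.Presheaf.stalk (AlgebraicGeometry.moduleStructurePresheaf R N).presheaf y))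
  let L : (tilde P).presheaf.stalk y →ₗ[R] (tilde Q).presheaf.stalk y :=
    (Groth.L19.Ass.stalkMapₗ (tilde.map i) y).restrictScalars R
  have hL : ∀ b, L ((tilde.toStalk P y).hom b) = (tilde.toStalk Q y).hom (i.hom b) := fun b => by
    rw [← Groth.L29.SkyInj.toOpen_germ y P ⊤ trivial, ← Groth.L29.SkyInj.toOpen_germ y Q ⊤ trivial]
    refine (stalkF_map_germ (tilde.map i) ⊤ y trivial _).trans ?_
    exact congrArg ((tilde Q).presheaf.germ ⊤ y trivial) (congr($(tilde.toOpen_map_app i ⊤).hom b))
  let iP : P →ₗ[R] (tilde P).presheaf.stalk y := (tilde.toStalk P y).hom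
  let iQ : Q →ₗ[R] (tilde Q).presheaf.stalk y := (tilde.toStalk Q y).hom
  haveI : IsLocalizedModule y.asIdeal.primeCompl iP := inferInstanceAs (IsLocalizedModule _ (tilde.toStalk P y).hom)
  haveI : IsLocalizedModule y.asIdeal.primeCompl iQ := inferInstanceAs (IsLocalizedModule _ (tilde.toStalk Q y).hom)
  change Function.Bijective L
  refine ⟨(injective_iff_map_eq_zero L).2 fun z hz => ?_, fun w => ?_⟩
  · obtain ⟨⟨b, s⟩, hb⟩ := IsLocalizedModule.surj y.asIdeal.primeCompl iP z
    have hb' : (s : R) • z = iP b := hb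
    have h0 : iQ (i.hom b) = 0 := (hL b).symm.trans (by rw [show (tilde.toStalk P y).hom b = iP b from rfl, ← hb',
      map_smul, hz, smul_zero])
    obtain ⟨t, ht⟩ := (IsLocalizedModule.eq_zero_iff y.asIdeal.primeCompl iQ).1 h0
    have ht' : (t : R) • b = 0 := hi (by rw [map_smul, map_zero]; exact ht)
    have h1 : iP b = 0 := (IsLocalizedModule.eq_zero_iff y.asIdeal.primeCompl iP).2 ⟨t, ht'⟩
    exact IsLocalizedModule.smul_injective iP s (hb.trans (h1.trans (smul_zero s).symm))
  · obtain ⟨⟨m, s⟩, hm⟩ := IsLocalizedModule.surj y.asIdeal.primeCompl iQ w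
    have hm' : (s : R) • w = iQ m := hm
    obtain ⟨t, ht, b, hb⟩ := hs m
    obtain ⟨z, hz⟩ := ((Module.End.isUnit_iff _).1
      (IsLocalizedModule.map_units iP (⟨t, ht⟩ * s : y.asIdeal.primeCompl))).2 (iP b)
    have hz' : (t * (s : R)) • z = iP b := hz
    refine ⟨z, IsLocalizedModule.smul_injective iQ (⟨t, ht⟩ * s : y.asIdeal.primeCompl) ?_⟩
    show (t * (s : R)) • L z = (t * (s : R)) • w
    rw [← map_smul, hz', show iP b = (tilde.toStalk P y).hom b from rfl, hL, hb, mul_smul, hm', ← map_smul]

/-- A coherent module on an affine scheme has a finite module of sections over the ring. -/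
theorem finite_moduleSpecΓ [IsLocallyNoetherian (Spec R)] (H : (Spec R).Modules) (hH : Coh.IsCoh H) :
    Module.Finite R ((moduleSpecΓFunctor (R := R)).obj H) := by
  haveI := Groth.L20.ModStalk.finite_sections H hH (isAffineOpen_top (Spec R))
  let σ : Γ(Spec R, ⊤) →+* R := (Scheme.ΓSpecIso R).hom.hom
  haveI : RingHomSurjective σ := ⟨(Scheme.ΓSpecIso R).commRingCatIsoToRingEquiv.surjective⟩
  let f : Γ(H, ⊤) →ₛₗ[σ] ((moduleSpecΓFunctor (R := R)).obj H) :=
    { toFun := fun m => m
      map_add' := fun _ _ => rfl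
      map_smul' := fun r m => (congrArg (fun c : Γ(Spec R, ⊤) => c • m)
        (ConcreteCategory.congr_hom (Scheme.ΓSpecIso R).hom_inv_id r)).symm }
  exact Module.Finite.of_surjective f fun m => ⟨m, rfl⟩

variable [IsLocallyNoetherian (Spec R)] {Z : Set (Spec R)}

/-- A map bijective off `Z` induces an isomorphism of closures. -/
theorem isIso_H0_map (hZ : StableUnderSpecialization Z) {F F' : (Spec R).Modules} (u : F ⟶ F')
    (hu : ∀ x, x ∉ Z → Function.Bijective ((stalkF (Spec R) x).map u)) : IsIso ((H0 Z).map u) := by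
  refine isIso_fac hZ (isZClosed_H0 hZ F') (u ≫ rhoApp Z F') (fun x hx => ?_) ((H0 Z).map u)
    ((rho Z).naturality u).symm
  rw [Functor.map_comp]
  exact (bijective_rho_stalk F' hx).comp (hu x hx)

variable (Z)

/-- The map into the global sections of the closure attached to a map bijective off `Z`. -/
def intoSections {P Q : ModuleCat.{u} R} (i : P ⟶ Q) [IsIso ((H0 Z).map (tilde.map i))] :
    Q ⟶ (moduleSpecΓFunctor (R := R)).obj ((H0 Z).obj (tilde P)) :=
  tilde.toOpen Q ⊤ ≫ (moduleSpecΓFunctor (R := R)).map (rhoApp Z (tilde Q) ≫ inv ((H0 Z).map (tilde.map i)))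

omit [IsLocallyNoetherian (Spec R)] in
theorem intoSections_eq_zero {P Q : ModuleCat.{u} R} (i : P ⟶ Q) [IsIso ((H0 Z).map (tilde.map i))] {m : Q}
    (h : (intoSections Z i).hom m = 0) (y : PrimeSpectrum.Top R) (hy : y ∉ Z) :
    ∃ t ∉ y.asIdeal, t • m = 0 := by
  let w := inv ((H0 Z).map (tilde.map i))
  haveI : IsIso ((Scheme.Modules.Hom.app w ⊤)) := Scheme.Modules.Hom.isIso_iff_isIso_app.1 inferInstance ⊤
  let a : Γ(tilde Q, ⊤) := (tilde.toOpen Q ⊤).hom m
  have h0 : w.app ⊤ ((rhoApp Z (tilde Q)).app ⊤ a) = 0 := h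
  have h1 : (rhoApp Z (tilde Q)).app ⊤ a = 0 :=
    ((ConcreteCategory.isIso_iff_bijective _).1 ‹IsIso (Scheme.Modules.Hom.app w ⊤)›).1 (h0.trans (map_zero _).symm)
  have h2 : (tilde.toStalk Q y).hom m = 0 := by
    rw [← Groth.L29.SkyInj.toOpen_germ y Q ⊤ trivial]
    refine (bijective_rho_stalk (tilde Q) hy).1 ?_
    rw [stalkF_map_germ, map_zero]
    exact (congrArg _ h1).trans (map_zero _)
  let iQ : Q →ₗ[R] (tilde Q).presheaf.stalk y := (tilde.toStalk Q y).hom
  haveI : IsLocalizedModule y.asIdeal.primeCompl iQ := inferInstanceAs (IsLocalizedModule _ (tilde.toStalk Q y).hom)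
  obtain ⟨t, ht⟩ := (IsLocalizedModule.eq_zero_iff y.asIdeal.primeCompl iQ).1 h2
  exact ⟨t.1, t.2, ht⟩

end Groth.L19.ZClos

namespace Groth.L19.ZClos

open _root_.ZClos

/-- The height-one hull of a quotient by a prime is finite when the closure along the small points is coherent. -/
theorem heightOneHullFinite_of_isCoh (A : Type u) [CommRing A] [IsNoetherianRing A]
    [IsLocallyNoetherian (Spec (CommRingCat.of A))] (q : Ideal A) [q.IsPrime]
    (hH : Coh.IsCoh ((H0 (X := Spec (CommRingCat.of A))
      {y : PrimeSpectrum A | q ≤ y.asIdeal ∧ (2 : ℕ∞) ≤ (y.asIdeal.map (Ideal.Quotient.mk q)).height}).obj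
        (EGA4.tildeOf A (A ⧸ q)))) :
    EGA4.HeightOneHullFinite (A ⧸ q) := by
  classical
  let R := CommRingCat.of A
  let Z : Set (Spec R) :=
    {y : PrimeSpectrum A | q ≤ y.asIdeal ∧ (2 : ℕ∞) ≤ (y.asIdeal.map (Ideal.Quotient.mk q)).height}
  have hZ : StableUnderSpecialization Z := fun y z hyz hy => by
    have hle : y.asIdeal ≤ z.asIdeal := (PrimeSpectrum.le_iff_specializes y z).2 hyz
    exact ⟨hy.1.trans hle, hy.2.trans (Ideal.height_mono (Ideal.map_mono hle))⟩
  let B := A ⧸ q
  let K := FractionRing B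
  haveI : IsNoetherianRing B := inferInstance
  let ι : B →ₗ[A] K := (IsScalarTower.toAlgHom A B K).toLinearMap
  let H : Subalgebra B K :=
    { carrier := EGA4.heightOneHull B
      mul_mem' := fun {u v} hu hv Q _ hQ => by
        obtain ⟨s, hs, a, ha⟩ := hu Q hQ
        obtain ⟨t, ht, b, hb⟩ := hv Q hQ
        exact ⟨s * t, ‹Q.IsPrime›.mul_notMem hs ht, a * b, by rw [map_mul, map_mul, ha, hb]; ring⟩
      add_mem' := fun {u v} hu hv Q _ hQ => by
        obtain ⟨s, hs, a, ha⟩ := hu Q hQ
        obtain ⟨t, ht, b, hb⟩ := hv Q hQ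
        exact ⟨s * t, ‹Q.IsPrime›.mul_notMem hs ht, a * t + s * b, by
          simp only [map_mul, map_add, ha, hb]; ring⟩
      algebraMap_mem' := fun c Q _ _ =>
        ⟨1, fun h => ‹Q.IsPrime›.ne_top ((Ideal.eq_top_iff_one _).2 h), c, by rw [map_one, one_mul]⟩ }
  have hιH : ∀ b, ι b ∈ H := fun b => H.algebraMap_mem b
  let inc (M' : Submodule A K) (hM : LinearMap.range ι ≤ M') : ModuleCat.of R B ⟶ ModuleCat.of R M' :=
    ModuleCat.ofHom (ι.codRestrict M' fun b => hM ⟨b, rfl⟩)
  have hiso : ∀ (M' : Submodule A K) (hM : LinearMap.range ι ≤ M') (_ : ∀ x ∈ M', x ∈ H),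
      IsIso ((H0 Z).map (tilde.map (inc M' hM))) := by
    intro M' hM hH'
    refine isIso_H0_map hZ _ fun y hy => bijective_stalk_tilde _ y
      (fun a b h => IsFractionRing.injective B K (congrArg Subtype.val h)) fun m => ?_
    by_cases hqy : q ≤ y.asIdeal
    · let y' : Ideal B := y.asIdeal.map (Ideal.Quotient.mk q)
      have hcy : y'.comap (Ideal.Quotient.mk q) = y.asIdeal := by
        rw [Ideal.comap_map_of_surjective _ Ideal.Quotient.mk_surjective, ← RingHom.ker_eq_comap_bot, Ideal.mk_ker,
          sup_eq_left.2 hqy]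
      haveI hy' : y'.IsPrime := Ideal.map_isPrime_of_surjective Ideal.Quotient.mk_surjective (by
        rw [Ideal.mk_ker]; exact hqy)
      have hlt : y'.height < 2 := not_le.1 fun h => hy ⟨hqy, h⟩
      obtain ⟨s, hs, a, ha⟩ : ∃ s : B, s ∉ y' ∧ ∃ a : B, algebraMap B K a = algebraMap B K s * (m : K) := by
        by_cases h1 : y'.height = 1
        · exact hH' m.1 m.2 y' h1
        · have h0 : y'.height = 0 := by
            generalize hn : y'.height = n at hlt h1
            induction n with
            | top => exact absurd hlt (by simp)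
            | coe n =>
              rcases n with _ | _ | n
              · rfl
              · exact absurd rfl h1
              · exact absurd hlt (not_lt.2 (by exact_mod_cast Nat.le_add_left 2 n))
          have hbot : y' = ⊥ := by
            rw [Ideal.height_eq_zero_iff, IsDomain.minimalPrimes_eq_singleton_bot, Set.mem_singleton_iff] at h0
            exact h0
          obtain ⟨⟨a, s⟩, has⟩ := IsLocalization.surj (nonZeroDivisors B) (m : K)
          exact ⟨s.1, fun h => nonZeroDivisors.ne_zero s.2 (Ideal.mem_bot.1 (hbot.le h)), a, by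
            rw [mul_comm]; exact has.symm⟩
      obtain ⟨s, rfl⟩ := Ideal.Quotient.mk_surjective s
      refine ⟨s, fun h => hs (Ideal.mem_map_of_mem _ h), a, Subtype.ext ?_⟩
      show algebraMap B K a = (s : A) • (m : K)
      rw [ha, Algebra.smul_def, IsScalarTower.algebraMap_apply A B K]
      rfl
    · obtain ⟨c, hcq, hcy⟩ := Set.not_subset.mp hqy
      refine ⟨c, hcy, 0, Subtype.ext ?_⟩
      show algebraMap B K 0 = c • (m : K)
      rw [map_zero, Algebra.smul_def, IsScalarTower.algebraMap_apply A B K,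
        show algebraMap A B c = 0 from Ideal.Quotient.eq_zero_iff_mem.2 hcq, map_zero, zero_mul]
  let N := (moduleSpecΓFunctor (R := R)).obj ((H0 Z).obj (tilde (ModuleCat.of R B)))
  haveI hNfin : Module.Finite R N := by
    exact finite_moduleSpecΓ _ hH
  haveI : IsNoetherian A N := isNoetherian_of_isNoetherianRing_of_finite A N
  let W : Submodule A K := H.toSubmodule.restrictScalars A
  have hWι : LinearMap.range ι ≤ W := by rintro _ ⟨b, rfl⟩; exact hιH b
  haveI := hiso W hWι fun _ h => h
  let Φ : W →ₗ[A] N := (intoSections Z (inc W hWι)).hom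
  have hΦ : Function.Injective Φ := by
    refine (injective_iff_map_eq_zero Φ).2 fun m hm => ?_
    let η : PrimeSpectrum.Top R := ⟨q, ‹q.IsPrime›⟩
    have hη : η ∉ Z := fun h => by
      have := h.2
      rw [show η.asIdeal = q from rfl, Ideal.map_quotient_self, Ideal.height_bot] at this
      exact absurd this (by simp)
    obtain ⟨t, ht, htm⟩ := intoSections_eq_zero Z (inc W hWι) hm η hη
    refine Subtype.ext ?_
    have h1 : (t : A) • (m : K) = 0 := congrArg Subtype.val htm
    rw [Algebra.smul_def, IsScalarTower.algebraMap_apply A B K, mul_eq_zero, map_eq_zero_iff _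
      (IsFractionRing.injective B K)] at h1
    exact h1.resolve_left fun h => ht (Ideal.Quotient.eq_zero_iff_mem.1 h)
  haveI : Module.Finite A W := Module.Finite.of_injective Φ hΦ
  refine ⟨H, rfl, ?_⟩
  haveI : Module.Finite A H := ‹Module.Finite A W›
  exact Module.Finite.of_restrictScalars_finite A B H

end Groth.L19.ZClos
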