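import Mathlib.AlgebraicGeometry.Noetherian
import Mathlib.Topology.Sober
import Mathlib.Topology.NoetherianSpace

/-!
# Closures inside subsets stable under specialization
-/

set_option autoImplicit false
set_option linter.style.haveILetI false
set_option backward.isDefEq.respectTransparency false

universe u

open AlgebraicGeometry TopologicalSpace

namespace Groth.L19.ZClos

/-- On a locally Noetherian scheme the closure of a locally closed subset of a subset stable under
specialization stays inside it. -/
theorem closure_subset_of_stableUnderSpecialization {X : Scheme.{u}} [IsLocallyNoetherian X] {Z : Set X}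
    (hZ : StableUnderSpecialization Z) {A : Set X} {V : X.Opens} (hAV : A ⊆ V)
    (hcl : closure A ∩ V ⊆ A) (hA : A ⊆ Z) : closure A ⊆ Z := by
  classical
  intro y hy
  obtain ⟨N, hN, hyN, -⟩ := exists_isAffineOpen_mem_and_subset (x := y) (U := ⊤) trivial
  haveI : IsAffine N.toScheme := hN
  haveI : IsLocallyNoetherian N.toScheme := isLocallyNoetherian_of_isOpenImmersion N.ι
  haveI : AlgebraicGeometry.IsNoetherian N.toScheme := {}
  haveI : NoetherianSpace N.toScheme := inferInstance
  let j : N.toScheme → X := N.ι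
  have hj : Topology.IsOpenEmbedding j := N.ι.isOpenEmbedding
  obtain ⟨S, hSfin, hSc, hSi, hS⟩ :=
    NoetherianSpace.exists_finite_set_isClosed_irreducible (s := closure (j ⁻¹' A)) isClosed_closure
  let S' := {C ∈ S | (C ∩ j ⁻¹' (V : Set X)).Nonempty}
  have hS'fin : S'.Finite := hSfin.subset fun C hC => hC.1
  have hsub : j ⁻¹' A ⊆ ⋃₀ S' := fun z hz => by
    have : z ∈ ⋃₀ S := hS ▸ subset_closure hz
    obtain ⟨C, hC, hzC⟩ := this
    exact ⟨C, ⟨hC, z, hzC, hAV hz⟩, hzC⟩
  have hclosed : IsClosed (⋃₀ S') := by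
    rw [Set.sUnion_eq_biUnion]
    exact Set.Finite.isClosed_biUnion hS'fin fun C hC => hSc C hC.1
  have hy' : (⟨y, hyN⟩ : N.toScheme) ∈ ⋃₀ S' := by
    refine closure_minimal hsub hclosed ?_
    rw [← hj.isOpenMap.preimage_closure_eq_closure_preimage hj.continuous]
    exact hy
  obtain ⟨C, ⟨hC, hCV⟩, hyC⟩ := hy'
  obtain ⟨η, hη⟩ := QuasiSober.sober (hSi C hC) (hSc C hC)
  have hηV : j η ∈ (V : Set X) := (hη.mem_open_set_iff (V.2.preimage hj.continuous)).2 hCV
  have hηA : j η ∈ closure A := by
    have : η ∈ closure (j ⁻¹' A) := hS ▸ ⟨C, hC, hη.mem⟩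
    rw [← hj.isOpenMap.preimage_closure_eq_closure_preimage hj.continuous] at this
    exact this
  exact hZ ((hη.specializes hyC).map hj.continuous) (hA (hcl ⟨hηA, hηV⟩))

end Groth.L19.ZClos
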