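import Groth.Prelude.Def_ZClos
import Groth.Agent.L19.ZClos.Top
import Groth.Agent.L19.FPExtend.Sheaf
import Groth.Agent.L00.StalkFunctor
import Mathlib.CategoryTheory.Limits.ConcreteCategory.Basic
import Mathlib.Algebra.Category.Grp.FilteredColimits

/-!
# The closure of a module along a subset stable under specialization: stalks and sections
-/

set_option autoImplicit false
set_option linter.style.haveILetI false
set_option backward.isDefEq.respectTransparency.types false
set_option backward.isDefEq.respectTransparency false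

universe u

open CategoryTheory CategoryTheory.Limits AlgebraicGeometry TopologicalSpace Opposite

noncomputable section

namespace Groth.L19.ZClos

open _root_.ZClos
open Groth.L18.Frame (rs rs_rs rs_self)
open Groth.L21.Mod (stalkF stalkF_map_germ)

variable {X : Scheme.{u}} {Z : Set X}

theorem mem_T_U {T : Cl Z} {x : X} (hx : x ∉ Z) : x ∈ T.U := fun h => hx (T.2 h)

/-- The intersection of an open with the complement of a member of the index. -/
theorem image_eq (T : Cl Z) (V : X.Opens) : T.U.ι ''ᵁ T.U.ι ⁻¹ᵁ V = T.U ⊓ V := ι_image_preimage T.U V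

/-- Equal restrictions to all small enough opens give equal sections. -/
theorem section_ext {F : X.Modules} {U : X.Opens} {s t : Γ(F, U)}
    (h : ∀ (x : X) (hx : x ∈ U), F.presheaf.germ U x hx s = F.presheaf.germ U x hx t) : s = t :=
  TopCat.Presheaf.section_ext ((Groth.L21.Mod.toAbSh X).obj F) U s t h

theorem germ_rs' {F : X.Modules} {U V : X.Opens} (h : V ≤ U) {x : X} (hx : x ∈ V) (s : Γ(F, U)) :
    F.presheaf.germ V x hx (rs F h s) = F.presheaf.germ U x (h hx) s :=
  Groth.L20.ModStalk.germ_rs F h hx s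

/-- The stalk at `x` of the Z-closure: every element comes from a stage. -/
theorem exists_rep (F : X.Modules) (x : X) (a : ((H0 Z).obj F).presheaf.stalk x) :
    ∃ (T : Cl Z) (W : X.Opens) (hx : x ∈ W) (s : Γ(((diagram Z).obj F).obj T, W)),
      ((H0 Z).obj F).presheaf.germ W x hx ((colimit.ι ((diagram Z).obj F) T).app W s) = a := by
  haveI : PreservesColimitsOfSize.{u, u} (stalkF X x) := Groth.L00.Stk.preservesColimits_stalkF x
  let hS := isColimitOfPreserves (stalkF X x) (colimit.isColimit ((diagram Z).obj F))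
  obtain ⟨T, b, hb⟩ := Concrete.isColimit_exists_rep (((diagram Z).obj F) ⋙ stalkF X x) hS a
  obtain ⟨W, hx, s, rfl⟩ := TopCat.Presheaf.exists_germ_eq (((diagram Z).obj F).obj T).presheaf b
  refine ⟨T, W, hx, s, Eq.trans ?_ hb⟩
  exact (stalkF_map_germ (colimit.ι ((diagram Z).obj F) T) W x hx s).symm

/-- An element of a stage vanishing in the stalk of the Z-closure vanishes at a later stage nearby. -/
theorem exists_killed_near (F : X.Modules) (T : Cl Z) {W : X.Opens} {x : X} (hx : x ∈ W)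
    (s : Γ(((diagram Z).obj F).obj T, W))
    (h : ((H0 Z).obj F).presheaf.germ W x hx ((colimit.ι ((diagram Z).obj F) T).app W s) = 0) :
    ∃ (T' : Cl Z) (hT : T ≤ T') (W' : X.Opens) (hW : W' ≤ W), x ∈ W' ∧
      rs F (le_inf ((inf_le_left : T'.U ⊓ W' ≤ T'.U).trans (Cl.U_anti hT)) (inf_le_right.trans hW) |>.trans
        (image_eq T W).ge) (show Γ(F, T.U.ι ''ᵁ T.U.ι ⁻¹ᵁ W) from s) = 0 := by
  haveI : PreservesColimitsOfSize.{u, u} (stalkF X x) := Groth.L00.Stk.preservesColimits_stalkF x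
  let hS := isColimitOfPreserves (stalkF X x) (colimit.isColimit ((diagram Z).obj F))
  let b : ((((diagram Z).obj F) ⋙ stalkF X x).obj T : Type u) := (((diagram Z).obj F).obj T).presheaf.germ W x hx s
  have hb : ((stalkF X x).mapCocone (colimit.cocone ((diagram Z).obj F))).ι.app T b =
      ((stalkF X x).mapCocone (colimit.cocone ((diagram Z).obj F))).ι.app T 0 :=
    (stalkF_map_germ (colimit.ι ((diagram Z).obj F) T) W x hx s).trans (h.trans (map_zero _).symm)
  obtain ⟨T', f, g, hfg⟩ := (Concrete.isColimit_rep_eq_iff_exists _ hS b 0).1 hb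
  rw [map_zero] at hfg
  have h0 : (((diagram Z).obj F).obj T').presheaf.germ W x hx ((((diagram Z).obj F).map f).app W s) = 0 :=
    (stalkF_map_germ (((diagram Z).obj F).map f) W x hx s).symm.trans hfg
  obtain ⟨W', hxW', i, i', hW'⟩ := TopCat.Presheaf.germ_eq (((diagram Z).obj F).obj T').presheaf x hx hx _ 0
    (h0.trans (map_zero _).symm)
  refine ⟨T', f.le, W', i.le, hxW', ?_⟩
  rw [map_zero] at hW'
  have h1 : ((diagram Z).obj F).map f = resPushMapApp (Cl.U_anti f.le) F := rfl
  rw [h1, resPushMapApp_app] at hW'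
  have h2 : rs F (image_eq T' W').ge (rs F (T'.U.ι.image_mono (T'.U.ι.preimage_mono i.le))
      (rs F (trIncl (Cl.U_anti f.le) W).le (show Γ(F, T.U.ι ''ᵁ T.U.ι ⁻¹ᵁ W) from s))) = 0 := by
    have : rs F (T'.U.ι.image_mono (T'.U.ι.preimage_mono i.le))
      (rs F (trIncl (Cl.U_anti f.le) W).le (show Γ(F, T.U.ι ''ᵁ T.U.ι ⁻¹ᵁ W) from s)) = 0 := hW'
    rw [this]
    exact map_zero _
  rw [rs_rs, rs_rs] at h2
  exact h2

/-- At a point outside `Z` the unit maps are bijective on stalks. -/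
theorem bijective_toDiagram_stalk (F : X.Modules) (T : Cl Z) {x : X} (hx : x ∈ T.U) :
    Function.Bijective ((stalkF X x).map (toDiagram Z F T)) := by
  refine Groth.L19.FPExtend.bijective_stalk_of_basis (toDiagram Z F T) (O := T.U) X.isBasis_affineOpens
    (fun D _ hD => ?_) hx
  have e : T.U.ι ''ᵁ T.U.ι ⁻¹ᵁ D = D := (image_eq T D).trans (inf_eq_right.2 hD)
  refine Function.bijective_iff_has_inverse.2 ⟨fun s => rs F e.ge (show Γ(F, T.U.ι ''ᵁ T.U.ι ⁻¹ᵁ D) from s),
    fun s => ?_, fun s => ?_⟩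
  · show rs F e.ge (rs F (T.U.ι.image_preimage_le D) s) = s
    rw [rs_rs]
    exact rs_self F _ _
  · show rs F (T.U.ι.image_preimage_le D) (rs F e.ge (show Γ(F, T.U.ι ''ᵁ T.U.ι ⁻¹ᵁ D) from s)) = _
    rw [rs_rs]
    exact rs_self F _ _

/-- At a point outside `Z` the map to the Z-closure is bijective on stalks. -/
theorem bijective_rho_stalk (F : X.Modules) {x : X} (hx : x ∉ Z) :
    Function.Bijective ((stalkF X x).map (rhoApp Z F)) := by
  haveI : PreservesColimitsOfSize.{u, u} (stalkF X x) := Groth.L00.Stk.preservesColimits_stalkF x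
  let hS := isColimitOfPreserves (stalkF X x) (colimit.isColimit ((diagram Z).obj F))
  have hfac : ∀ (T : Cl Z) (z : (stalkF X x).obj F),
      (stalkF X x).map (colimit.ι ((diagram Z).obj F) T) ((stalkF X x).map (toDiagram Z F T) z) =
        (stalkF X x).map (rhoApp Z F) z := fun T z => by
    rw [rhoApp_eq Z F T]
    exact (congr($((stalkF X x).map_comp (toDiagram Z F T) (colimit.ι ((diagram Z).obj F) T)) z)).symm
  have hmap : ∀ {T T' : Cl Z} (f : T ⟶ T') (z : (stalkF X x).obj F),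
      (stalkF X x).map (((diagram Z).obj F).map f) ((stalkF X x).map (toDiagram Z F T) z) =
        (stalkF X x).map (toDiagram Z F T') z := fun f z => by
    rw [← toDiagram_map Z F f]
    exact (congr($((stalkF X x).map_comp (toDiagram Z F _) (((diagram Z).obj F).map f)) z)).symm
  refine ⟨(injective_iff_map_eq_zero _).2 fun z hz => ?_, fun y => ?_⟩
  · rw [← hfac ⊥] at hz
    obtain ⟨T', f, g, hfg⟩ := (Concrete.isColimit_rep_eq_iff_exists _ hS
      (i := ⊥) (j := ⊥) ((stalkF X x).map (toDiagram Z F ⊥) z) 0).1 (hz.trans (map_zero _).symm)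
    rw [map_zero] at hfg
    exact (bijective_toDiagram_stalk F T' (mem_T_U hx)).1 (((hmap f z).symm.trans hfg).trans (map_zero _).symm)
  · obtain ⟨T, b, hb⟩ := Concrete.isColimit_exists_rep (((diagram Z).obj F) ⋙ stalkF X x) hS y
    obtain ⟨z, rfl⟩ := (bijective_toDiagram_stalk F T (mem_T_U hx)).2 b
    exact ⟨z, ((hfac T z).symm.trans hb)⟩

/-- Members of the index obtained from closures. -/
def Cl.ofLocallyClosed [IsLocallyNoetherian X] (hZ : StableUnderSpecialization Z) (A : Set X) {V : X.Opens}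
    (hAV : A ⊆ V) (hcl : closure A ∩ V ⊆ A) (hA : A ⊆ Z) : Cl Z :=
  ⟨⟨closure A, isClosed_closure⟩, closure_subset_of_stableUnderSpecialization hZ hAV hcl hA⟩

/-- A section with zero germs outside `Z` is killed by removing a member of the index. -/
theorem exists_kill [IsLocallyNoetherian X] (hZ : StableUnderSpecialization Z) (F : X.Modules) {V : X.Opens}
    (s : Γ(F, V)) (h : ∀ (y : X) (hy : y ∈ V), y ∉ Z → F.presheaf.germ V y hy s = 0) :
    ∃ T : Cl Z, rs F (inf_le_right : T.U ⊓ V ≤ V) s = 0 := by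
  classical
  let A : Set X := {y | ∃ hy : y ∈ V, F.presheaf.germ V y hy s ≠ 0}
  have hcl : closure A ∩ V ⊆ A := fun y hy => ⟨hy.2, fun h0 => by
    obtain ⟨W, hyW, i, i', hW⟩ := TopCat.Presheaf.germ_eq F.presheaf y hy.2 hy.2 s 0 (h0.trans (map_zero _).symm)
    obtain ⟨z, hzW, hzV, hz⟩ := mem_closure_iff.1 hy.1 W W.2 hyW
    apply hz
    rw [← TopCat.Presheaf.germ_res_apply F.presheaf i z hzW, hW, map_zero, map_zero]⟩
  have hA : A ⊆ Z := fun y hy => by
    by_contra hyZ
    exact hy.2 (h y hy.1 hyZ)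
  refine ⟨Cl.ofLocallyClosed hZ A (fun y hy => hy.1) hcl hA, section_ext fun y hy => ?_⟩
  rw [germ_rs', map_zero]
  by_contra h0
  exact hy.1 (subset_closure ⟨hy.2, h0⟩)

/-- A section of a stage with zero germs outside `Z` vanishes in the Z-closure. -/
theorem ι_app_eq_zero [IsLocallyNoetherian X] (hZ : StableUnderSpecialization Z) (F : X.Modules) (T : Cl Z)
    {W : X.Opens} (s : Γ(((diagram Z).obj F).obj T, W))
    (h : ∀ (y : X) (hy : y ∈ T.U ⊓ W), y ∉ Z →
      F.presheaf.germ (T.U ⊓ W) y hy (rs F (image_eq T W).ge (show Γ(F, T.U.ι ''ᵁ T.U.ι ⁻¹ᵁ W) from s)) = 0) :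
    (colimit.ι ((diagram Z).obj F) T).app W s = 0 := by
  obtain ⟨T₁, hT₁⟩ := exists_kill hZ F _ h
  let T' := T ⊔ T₁
  rw [← colimit.w ((diagram Z).obj F) (homOfLE (le_sup_left : T ≤ T'))]
  show (colimit.ι ((diagram Z).obj F) T').app W
    ((resPushMapApp (Cl.U_anti (le_sup_left : T ≤ T')) F).app W s) = 0
  have : (resPushMapApp (Cl.U_anti (le_sup_left : T ≤ T')) F).app W s = 0 := by
    rw [resPushMapApp_app]
    show rs F (trIncl (Cl.U_anti (le_sup_left : T ≤ T')) W).le (show Γ(F, T.U.ι ''ᵁ T.U.ι ⁻¹ᵁ W) from s) = 0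
    have hle : T'.U.ι ''ᵁ T'.U.ι ⁻¹ᵁ W ≤ T₁.U ⊓ (T.U ⊓ W) := by
      rw [image_eq]
      exact le_inf (inf_le_left.trans (Cl.U_anti le_sup_right))
        (inf_le_inf_right W (Cl.U_anti le_sup_left))
    have h2 := congrArg (rs F hle) hT₁
    rw [rs_rs, rs_rs] at h2
    exact h2.trans (map_zero _)
  rw [this]
  exact map_zero _

/-- The Z-closure has no nonzero sections with zero germs outside `Z`. -/
theorem eq_zero_of_germs [IsLocallyNoetherian X] (hZ : StableUnderSpecialization Z) (F : X.Modules) {V : X.Opens}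
    (σ : Γ((H0 Z).obj F, V))
    (h : ∀ (y : X) (hy : y ∈ V), y ∉ Z → ((H0 Z).obj F).presheaf.germ V y hy σ = 0) : σ = 0 := by
  refine section_ext fun x hx => ?_
  rw [map_zero]
  obtain ⟨T, W, hxW, s, hs⟩ := exists_rep F x (((H0 Z).obj F).presheaf.germ V x hx σ)
  obtain ⟨W', hxW', i, i', hW'⟩ := TopCat.Presheaf.germ_eq ((H0 Z).obj F).presheaf x hxW hx _ _ hs
  let s' : Γ(((diagram Z).obj F).obj T, W') := rs (((diagram Z).obj F).obj T) i.le s
  have hs' : (colimit.ι ((diagram Z).obj F) T).app W' s' = rs ((H0 Z).obj F) i'.le σ := by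
    refine (Groth.L16.EpiFrames.app_rs _ _ _).trans ?_
    exact hW'
  have h0 : (colimit.ι ((diagram Z).obj F) T).app W' s' = 0 := by
    refine ι_app_eq_zero hZ F T s' fun y hy hyZ => ?_
    refine (bijective_rho_stalk F hyZ).1 (Eq.trans ?_ (map_zero _).symm)
    let t : Γ(F, T.U ⊓ W') := rs F (image_eq T W').ge (show Γ(F, T.U.ι ''ᵁ T.U.ι ⁻¹ᵁ W') from s')
    rw [stalkF_map_germ, rhoApp_eq Z F T, Scheme.Modules.Hom.comp_app, ConcreteCategory.comp_apply]
    have h1 : (toDiagram Z F T).app (T.U ⊓ W') t = rs (((diagram Z).obj F).obj T) (inf_le_right : T.U ⊓ W' ≤ W') s' := by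
      show rs F (T.U.ι.image_preimage_le (T.U ⊓ W')) (rs F (image_eq T W').ge _) =
        rs F (T.U.ι.image_mono (T.U.ι.preimage_mono (inf_le_right : T.U ⊓ W' ≤ W'))) _
      rw [rs_rs]
    rw [h1, Groth.L16.EpiFrames.app_rs, germ_rs']
    refine (congrArg (((H0 Z).obj F).presheaf.germ W' y hy.2) hs').trans ?_
    rw [germ_rs']
    exact h y (i'.le hy.2) hyZ
  rw [← TopCat.Presheaf.germ_res_apply ((H0 Z).obj F).presheaf i' x hxW']
  exact (congrArg (((H0 Z).obj F).presheaf.germ W' x hxW') (hs'.symm.trans h0)).trans (map_zero _)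

/-- The germ, at a point of the open of a stage, of the image of a section of that stage. -/
theorem germ_ι (F : X.Modules) (T : Cl Z) {W : X.Opens} (r : Γ(((diagram Z).obj F).obj T, W)) {y : X}
    (hy : y ∈ T.U ⊓ W) :
    ((H0 Z).obj F).presheaf.germ W y hy.2 ((colimit.ι ((diagram Z).obj F) T).app W r) =
      (stalkF X y).map (rhoApp Z F) (F.presheaf.germ (T.U ⊓ W) y hy
        (rs F (image_eq T W).ge (show Γ(F, T.U.ι ''ᵁ T.U.ι ⁻¹ᵁ W) from r))) := by
  rw [stalkF_map_germ, rhoApp_eq Z F T, Scheme.Modules.Hom.comp_app, ConcreteCategory.comp_apply]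
  have h1 : (toDiagram Z F T).app (T.U ⊓ W) (rs F (image_eq T W).ge (show Γ(F, T.U.ι ''ᵁ T.U.ι ⁻¹ᵁ W) from r)) =
      rs (((diagram Z).obj F).obj T) (inf_le_right : T.U ⊓ W ≤ W) r := by
    show rs F (T.U.ι.image_preimage_le (T.U ⊓ W)) (rs F (image_eq T W).ge _) =
      rs F (T.U.ι.image_mono (T.U.ι.preimage_mono (inf_le_right : T.U ⊓ W ≤ W))) _
    rw [rs_rs]
  rw [h1, Groth.L16.EpiFrames.app_rs, germ_rs']
  rfl

end Groth.L19.ZClos
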