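import Groth.Agent.L19.ZClos.Criteria
import Groth.Agent.L16.HomSh.Basic

/-!
# Lifting sections off a subset and the universal property of the closure
-/

set_option autoImplicit false
set_option linter.style.haveILetI false
set_option backward.isDefEq.respectTransparency.types false
set_option backward.isDefEq.respectTransparency false

universe u

open CategoryTheory CategoryTheory.Limits AlgebraicGeometry TopologicalSpace Opposite

noncomputable section

namespace Groth.L19.ZClos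

open _root_.ZClos
open Groth.L18.Frame (rs rs_rs rs_self)
open Groth.L21.Mod (stalkF stalkF_map_germ)

variable {X : Scheme.{u}} {Z : Set X}

/-- A Noetherian open has quasi-compact subsets only. -/
theorem isCompact_of_subset_affine [IsLocallyNoetherian X] {W : X.Opens} (hW : IsAffineOpen W) {Ω : Set X}
    (h : Ω ⊆ W) : IsCompact Ω := by
  haveI : IsAffine W.toScheme := hW
  haveI : IsLocallyNoetherian W.toScheme := isLocallyNoetherian_of_isOpenImmersion W.ι
  haveI : AlgebraicGeometry.IsNoetherian W.toScheme := {}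
  haveI : NoetherianSpace W.toScheme := inferInstance
  have := (NoetherianSpace.isCompact (W.ι.base ⁻¹' Ω)).image W.ι.continuous
  rwa [Set.image_preimage_eq_of_subset (by rw [Scheme.Opens.range_ι]; exact h)] at this

variable [IsLocallyNoetherian X]

/-- A section of the target of a map bijective outside `Z` lifts away from a member of the index. -/
theorem exists_lift_off (hZ : StableUnderSpecialization Z) {F G : X.Modules} (u : F ⟶ G)
    (hu : ∀ y, y ∉ Z → Function.Bijective ((stalkF X y).map u)) {W O : X.Opens} (hW : IsAffineOpen W)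
    (hO : O ≤ W) (f : Γ(G, O)) :
    ∃ (T : Cl Z) (s : Γ(F, T.U ⊓ O)), u.app (T.U ⊓ O) s = rs G inf_le_right f := by
  classical
  have loc : ∀ y : {y : X // y ∈ O ∧ y ∉ Z}, ∃ (N : X.Opens) (hN : N ≤ O) (s : Γ(F, N)),
      y.1 ∈ N ∧ u.app N s = rs G hN f := by
    rintro ⟨y, hy, hyZ⟩
    obtain ⟨a, ha⟩ := (hu y hyZ).2 (G.presheaf.germ O y hy f)
    obtain ⟨N₀, hyN₀, s₀, rfl⟩ := TopCat.Presheaf.exists_germ_eq F.presheaf a
    rw [stalkF_map_germ] at ha
    obtain ⟨N, hyN, i, i', hN⟩ := TopCat.Presheaf.germ_eq G.presheaf y hyN₀ hy _ _ ha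
    exact ⟨N, i'.le, rs F i.le s₀, hyN, (Groth.L16.EpiFrames.app_rs _ _ _).trans hN⟩
  choose N hNO s hyN hs using loc
  let Ω : X.Opens := ⨆ y, N y
  have hΩO : Ω ≤ O := iSup_le hNO
  obtain ⟨t, ht⟩ := (isCompact_of_subset_affine hW (Ω := (Ω : Set X)) (hΩO.trans hO)).elim_finite_subcover
    (fun y => (N y : Set X)) (fun y => (N y).2) (fun x hx => by
      obtain ⟨y, hy⟩ := TopologicalSpace.Opens.mem_iSup.1 hx
      exact Set.mem_iUnion.2 ⟨y, hy⟩)
  let A : Set X := (O : Set X) \ Ω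
  let T₀ : Cl Z := Cl.ofLocallyClosed hZ A (V := O) (fun y hy => hy.1)
    (fun y hy => ⟨hy.2, fun hyΩ => by
      obtain ⟨z, hzΩ, hz⟩ := mem_closure_iff.1 hy.1 Ω Ω.2 hyΩ
      exact hz.2 hzΩ⟩)
    (fun y hy => by
      by_contra hyZ
      exact hy.2 (TopologicalSpace.Opens.mem_iSup.2 ⟨⟨y, hy.1, hyZ⟩, hyN _⟩))
  have hd : ∀ k l, ∃ T : Cl Z, rs F (inf_le_right : T.U ⊓ (N k ⊓ N l) ≤ N k ⊓ N l)
      (rs F inf_le_left (s k) - rs F inf_le_right (s l)) = 0 := fun k l => exists_kill hZ F _ fun y hy hyZ => by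
    refine (hu y hyZ).1 (Eq.trans ?_ (map_zero _).symm)
    rw [stalkF_map_germ, map_sub, Groth.L16.EpiFrames.app_rs, Groth.L16.EpiFrames.app_rs, hs, hs, rs_rs, rs_rs,
      sub_self, map_zero]
  choose Td hTd using hd
  let T : Cl Z := T₀ ⊔ (t ×ˢ t).sup fun p => Td p.1 p.2
  let I : Type u := {k // k ∈ t}
  have hT : ∀ k l : I, T.U ≤ (Td k.1 l.1).U := fun k l => Cl.U_anti
    ((Finset.le_sup (f := fun p => Td p.1 p.2) (Finset.mk_mem_product k.2 l.2)).trans le_sup_right)
  obtain ⟨σ, hσ⟩ := Groth.L16.HomSh.exists_glue F (fun k : I => T.U ⊓ N k.1) (W := T.U ⊓ O)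
    (fun k => inf_le_inf_left _ (hNO k.1)) (fun x hx => by
      have hxΩ : x ∈ Ω := by
        by_contra h
        exact Cl.U_anti (le_sup_left : T₀ ≤ T) hx.1 (subset_closure (show x ∈ A from ⟨hx.2, h⟩))
      obtain ⟨k, hk, hxk⟩ := Set.mem_iUnion₂.1 (ht hxΩ)
      exact TopologicalSpace.Opens.mem_iSup.2 ⟨⟨k, hk⟩, hx.1, hxk⟩)
    (fun k => rs F inf_le_right (s k.1)) (fun k l => by
      have hle : (T.U ⊓ N k.1) ⊓ (T.U ⊓ N l.1) ≤ (Td k.1 l.1).U ⊓ (N k.1 ⊓ N l.1) :=
        le_inf (inf_le_left.trans (inf_le_left.trans (hT k l)))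
          (le_inf (inf_le_left.trans inf_le_right) (inf_le_right.trans inf_le_right))
      have h := congrArg (rs F hle) (hTd k.1 l.1)
      rw [rs_rs, show rs F (hle.trans inf_le_right) (rs F inf_le_left (s k.1) - rs F inf_le_right (s l.1)) =
        rs F (hle.trans inf_le_right) (rs F inf_le_left (s k.1)) -
          rs F (hle.trans inf_le_right) (rs F inf_le_right (s l.1)) from map_sub _ _ _,
        rs_rs, rs_rs, show rs F hle (0 : Γ(F, (Td k.1 l.1).U ⊓ (N k.1 ⊓ N l.1))) = 0 from map_zero _,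
        sub_eq_zero] at h
      rw [rs_rs, rs_rs]
      exact h)
  refine ⟨T, σ, section_ext fun y hy => ?_⟩
  have hyΩ : y ∈ Ω := by
    by_contra h
    exact Cl.U_anti (le_sup_left : T₀ ≤ T) hy.1 (subset_closure (show y ∈ A from ⟨hy.2, h⟩))
  obtain ⟨k, hk, hyk⟩ := Set.mem_iUnion₂.1 (ht hyΩ)
  have h1 := congrArg (G.presheaf.germ (T.U ⊓ N k) y ⟨hy.1, hyk⟩) (congrArg (u.app (T.U ⊓ N k)) (hσ ⟨k, hk⟩))
  rw [Groth.L16.EpiFrames.app_rs, Groth.L16.EpiFrames.app_rs, germ_rs', germ_rs', hs, germ_rs'] at h1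
  rw [h1, germ_rs']

/-- Sections with equal germs outside `Z` of a pure module are equal. -/
theorem eq_of_germs_of_pure (hZ : StableUnderSpecialization Z) {F : X.Modules} (hF : IsZPure Z F) {V : X.Opens}
    {a b : Γ(F, V)}
    (h : ∀ (y : X) (hy : y ∈ V), y ∉ Z → F.presheaf.germ V y hy a = F.presheaf.germ V y hy b) : a = b := by
  haveI : Mono (rhoApp Z F) := hF
  refine app_injective_of_mono (rhoApp Z F) V ?_
  rw [← sub_eq_zero]
  refine eq_zero_of_germs hZ F _ fun y hy hyZ => ?_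
  rw [map_sub, ← stalkF_map_germ, ← stalkF_map_germ, h y hy hyZ, sub_self]

/-- The closure is closed. -/
theorem isZClosed_H0 (hZ : StableUnderSpecialization Z) (F : X.Modules) : IsZClosed Z ((H0 Z).obj F) := by
  let H := (H0 Z).obj F
  have hp : ∀ (T : Cl Z) (V : X.Opens), Function.Injective (res H T V) := fun T V a b hab => by
    rw [← sub_eq_zero]
    refine eq_zero_of_germs hZ F _ fun y hy hyZ => ?_
    have := congrArg (H.presheaf.germ (V ⊓ T.U) y ⟨hy, mem_T_U hyZ⟩) hab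
    change H.presheaf.germ _ y _ (rs H inf_le_left a) = H.presheaf.germ _ y _ (rs H inf_le_left b) at this
    rw [germ_rs', germ_rs'] at this
    rw [map_sub, this, sub_self]
  refine (isZClosed_iff_basis H X.isBasis_affineOpens).2 fun T W hW => ⟨hp T W, fun r => ?_⟩
  obtain ⟨T₁, s, hs⟩ := exists_lift_off hZ (rhoApp Z F) (fun y hy => bijective_rho_stalk F hy) hW
    (inf_le_left : W ⊓ T.U ≤ W) r
  let T₂ := T ⊔ T₁
  have hle : T₂.U ⊓ W ≤ T₁.U ⊓ (W ⊓ T.U) :=
    le_inf (inf_le_left.trans (Cl.U_anti le_sup_right)) (le_inf inf_le_right (inf_le_left.trans (Cl.U_anti le_sup_left)))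
  let s₂ : Γ(((diagram Z).obj F).obj T₂, W) := rs F (image_eq T₂ W).le (rs F hle s)
  refine ⟨(colimit.ι ((diagram Z).obj F) T₂).app W s₂, ?_⟩
  rw [← sub_eq_zero]
  refine eq_zero_of_germs hZ F _ fun y hy hyZ => ?_
  rw [map_sub, sub_eq_zero]
  show H.presheaf.germ (W ⊓ T.U) y hy (rs H inf_le_left ((colimit.ι ((diagram Z).obj F) T₂).app W s₂)) = _
  rw [germ_rs']
  have hy₂ : y ∈ T₂.U ⊓ W := ⟨mem_T_U hyZ, hy.1⟩
  refine (germ_ι F T₂ s₂ hy₂).trans ?_
  show (stalkF X y).map (rhoApp Z F) (F.presheaf.germ _ y hy₂ (rs F (image_eq T₂ W).ge (rs F (image_eq T₂ W).le (rs F hle s)))) = _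
  rw [germ_rs', germ_rs', germ_rs', stalkF_map_germ, hs, germ_rs']

/-- A map to a closed module which is bijective outside `Z` induces an isomorphism from the closure. -/
theorem isIso_fac (hZ : StableUnderSpecialization Z) {F F' : X.Modules} (hF' : IsZClosed Z F') (u : F ⟶ F')
    (hu : ∀ x : X, x ∉ Z → Function.Bijective ((stalkF X x).map u))
    (v : (H0 Z).obj F ⟶ F') (hv : rhoApp Z F ≫ v = u) : IsIso v := by
  have hvz : ∀ (y : X) (z : (stalkF X y).obj F),
      (stalkF X y).map v ((stalkF X y).map (rhoApp Z F) z) = (stalkF X y).map u z := fun y z => by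
    rw [← hv]
    exact (congr($((stalkF X y).map_comp (rhoApp Z F) v) z)).symm
  have hp : IsZPure Z F' := by
    haveI : IsIso (rhoApp Z F') := hF'
    show Mono (rhoApp Z F')
    infer_instance
  rw [Groth.L21.Mod.isIso_iff_stalk_bijective]
  intro x
  refine ⟨(injective_iff_map_eq_zero _).2 fun a ha => ?_, fun b => ?_⟩
  · obtain ⟨T, W, hxW, s, rfl⟩ := exists_rep F x a
    rw [stalkF_map_germ] at ha
    obtain ⟨W', hxW', i, i', hW'⟩ := TopCat.Presheaf.germ_eq F'.presheaf x hxW hxW _ 0 (ha.trans (map_zero _).symm)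
    rw [map_zero] at hW'
    rw [← TopCat.Presheaf.germ_res_apply ((H0 Z).obj F).presheaf i x hxW']
    suffices rs ((H0 Z).obj F) i.le ((colimit.ι ((diagram Z).obj F) T).app W s) = 0 by
      exact (congrArg (((H0 Z).obj F).presheaf.germ W' x hxW') this).trans (map_zero _)
    refine eq_zero_of_germs hZ F _ fun y hy hyZ => ?_
    rw [germ_rs']
    have hyT : y ∈ T.U ⊓ W := ⟨mem_T_U hyZ, i.le hy⟩
    refine (germ_ι F T s hyT).trans ?_
    have h0 : (stalkF X y).map v (((H0 Z).obj F).presheaf.germ W y (i.le hy) ((colimit.ι ((diagram Z).obj F) T).app W s)) = 0 := by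
      rw [stalkF_map_germ, ← TopCat.Presheaf.germ_res_apply F'.presheaf i y hy]
      exact (congrArg (F'.presheaf.germ W' y hy) hW').trans (map_zero _)
    rw [germ_ι F T s hyT, hvz] at h0
    rw [(hu y hyZ).1 (h0.trans (map_zero _).symm)]
    exact map_zero _
  · obtain ⟨U, hxU, f₀, rfl⟩ := TopCat.Presheaf.exists_germ_eq F'.presheaf b
    obtain ⟨W, hW, hxW, hWU⟩ := exists_isAffineOpen_mem_and_subset (x := x) (U := U) hxU
    obtain ⟨T, s, hs⟩ := exists_lift_off hZ u hu hW le_rfl (rs F' (SetLike.coe_subset_coe.1 hWU) f₀)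
    let r : Γ(((diagram Z).obj F).obj T, W) := rs F (image_eq T W).le s
    refine ⟨((H0 Z).obj F).presheaf.germ W x hxW ((colimit.ι ((diagram Z).obj F) T).app W r), ?_⟩
    rw [stalkF_map_germ, ← germ_rs' (SetLike.coe_subset_coe.1 hWU) hxW f₀]
    refine congrArg (F'.presheaf.germ W x hxW) (eq_of_germs_of_pure hZ hp fun y hy hyZ => ?_)
    have hyT : y ∈ T.U ⊓ W := ⟨mem_T_U hyZ, hy⟩
    refine (stalkF_map_germ v W y hy _).symm.trans ?_
    rw [show ((H0 Z).obj F).presheaf.germ W y hy ((colimit.ι ((diagram Z).obj F) T).app W r) = _ from germ_ι F T r hyT,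
      hvz]
    show (stalkF X y).map u (F.presheaf.germ _ y hyT (rs F (image_eq T W).ge (rs F (image_eq T W).le s))) = _
    rw [germ_rs', germ_rs', stalkF_map_germ, hs, germ_rs']

end Groth.L19.ZClos
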