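import Groth.Agent.L19.ZClos.Depth
import Groth.Agent.L19.SupportPullback
import Groth.Agent.S5855
import Groth.Agent.S5841
import Groth.Agent.L04.Depth2

/-!
# Closedness at a point and depth
-/

set_option autoImplicit false
set_option linter.style.haveILetI false
set_option backward.isDefEq.respectTransparency.types false
set_option backward.isDefEq.respectTransparency false

universe u

open CategoryTheory CategoryTheory.Limits AlgebraicGeometry TopologicalSpace Opposite IsLocalRing

noncomputable section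

namespace Groth.L19.ZClos

open _root_.ZClos
open Groth.L18.Frame (rs ro rs_rs rs_self rs_smul)
open Groth.L21.Mod (stalkF stalkF_map_germ)

/-- An element that becomes killed by a regular element lifts when the depth is at least two. -/
theorem mem_range_of_two_le_depth {R : Type u} [CommRing R] [IsLocalRing R] [IsNoetherianRing R]
    {M N : Type u} [AddCommGroup M] [Module R M] [Module.Finite R M] [AddCommGroup N] [Module R N]
    (ψ : M →ₗ[R] N) (hψ : Function.Injective ψ)
    (hN : ∀ e : N, (∀ b ∈ maximalIdeal R, b • e = 0) → e = 0) (hd : (2 : ℕ∞) ≤ LocCoh.depth R M)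
    (n : N) (hn : ∀ b ∈ maximalIdeal R, b • n ∈ LinearMap.range ψ) : n ∈ LinearMap.range ψ := by
  obtain ⟨a, ha, hreg⟩ : ∃ a ∈ maximalIdeal R, IsSMulRegular M a := by
    refine (Groth.L04.exists_regular_or_killed (maximalIdeal R) M).resolve_right ?_
    rintro ⟨w, hw0, hw⟩
    have h0 := Groth.L01.depth_eq_zero_of_smul_eq_zero (m := w) hw0 hw
    rw [h0] at hd
    exact absurd hd (by simp)
  obtain ⟨μ, hμ⟩ := hn a ha
  have hq : ∀ e : QuotSMulTop a M, (∀ b ∈ maximalIdeal R, b • e = 0) → e = 0 := by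
    intro e he
    by_contra hne
    have h0 : LocCoh.depth R (QuotSMulTop a M) = 0 :=
      Groth.L01.depth_eq_zero_of_smul_eq_zero (m := e) hne he
    have h1 : LocCoh.depth R (QuotSMulTop a M) + 1 = LocCoh.depth R M :=
      Groth.L04.idealDepth_quotSMulTop_add_one ha hreg
    rw [h0, zero_add] at h1
    rw [← h1] at hd
    exact absurd hd (by norm_num)
  have hcl : Submodule.Quotient.mk μ = (0 : QuotSMulTop a M) := hq _ fun b hb => by
    obtain ⟨ν, hν⟩ := hn b hb
    rw [← Submodule.Quotient.mk_smul, Submodule.Quotient.mk_eq_zero,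
      Submodule.mem_smul_pointwise_iff_exists]
    exact ⟨ν, trivial, hψ (by rw [map_smul, map_smul, hν, hμ, smul_comm])⟩
  rw [Submodule.Quotient.mk_eq_zero, Submodule.mem_smul_pointwise_iff_exists] at hcl
  obtain ⟨ν, -, hν⟩ := hcl
  refine ⟨ν, (sub_eq_zero.mp (hN (n - ψ ν) fun b hb => ?_)).symm⟩
  obtain ⟨ν', hν'⟩ := hn b hb
  have e : ν' = b • ν := hreg (show a • ν' = a • b • ν from
    hψ (by rw [map_smul, hν', smul_comm a b n, ← hμ, ← hν, ← map_smul, smul_comm b a ν]))
  rw [smul_sub, ← hν', e, map_smul, sub_self]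

variable {X : Scheme.{u}} [IsLocallyNoetherian X] {Z : Set X}

theorem isQCoh_stage (F : X.Modules) [hF : Coh.IsQCoh F] (T : Cl Z) :
    Coh.IsQCoh (((diagram Z).obj F).obj T) := by
  haveI : Coh.IsQCoh (F.restrict T.U.ι) := Scheme.Modules.isQuasicoherent_restrictFunctor _ F
  haveI : QuasiCompact T.U.ι := inferInstance
  exact Groth.L16.QcqsPush.isQCoh_push (F.restrict T.U.ι) T.U.ι

omit [IsLocallyNoetherian X] in
/-- The germ of a section of a stage at a point of the open. -/
theorem germ_stage (F : X.Modules) (T : Cl Z) {V : X.Opens} (n : Γ(((diagram Z).obj F).obj T, V))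
    {z : X} (hzV : z ∈ V) (hzT : z ∈ T.U) :
    (((diagram Z).obj F).obj T).presheaf.germ V z hzV n =
      (stalkF X z).map (toDiagram Z F T) (F.presheaf.germ (T.U.ι ''ᵁ T.U.ι ⁻¹ᵁ V) z
        ((image_eq T V).ge ⟨hzT, hzV⟩) (show Γ(F, T.U.ι ''ᵁ T.U.ι ⁻¹ᵁ V) from n)) := by
  let O := T.U.ι ''ᵁ T.U.ι ⁻¹ᵁ V
  have hz : z ∈ O := (image_eq T V).ge ⟨hzT, hzV⟩
  have hOV : O ≤ V := T.U.ι.image_preimage_le V
  rw [stalkF_map_germ (toDiagram Z F T) O z hz, ← germ_rs' (F := ((diagram Z).obj F).obj T) hOV hz]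
  congr 1

omit [IsLocallyNoetherian X] in
/-- A section of a stage with vanishing germs on the open vanishes. -/
theorem stage_ext (F : X.Modules) (T : Cl Z) {V : X.Opens} {n n' : Γ(((diagram Z).obj F).obj T, V)}
    (h : ∀ (z : X) (hzV : z ∈ V), z ∈ T.U →
      (((diagram Z).obj F).obj T).presheaf.germ V z hzV n = (((diagram Z).obj F).obj T).presheaf.germ V z hzV n') :
    n = n' := by
  have e : (show Γ(F, T.U.ι ''ᵁ T.U.ι ⁻¹ᵁ V) from n) = (show Γ(F, T.U.ι ''ᵁ T.U.ι ⁻¹ᵁ V) from n') := by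
    refine section_ext fun z hz => ?_
    obtain ⟨hzT, hzV⟩ := (image_eq T V).le hz
    have h1 := h z hzV hzT
    rw [germ_stage F T n hzV hzT, germ_stage F T n' hzV hzT] at h1
    exact (bijective_toDiagram_stalk F T hzT).1 h1
  exact e

omit [IsLocallyNoetherian X] in
theorem rho_stalk_eq (F : X.Modules) (T : Cl Z) (x : X) (a : F.presheaf.stalk x) :
    (stalkF X x).map (rhoApp Z F) a =
      (stalkF X x).map (colimit.ι ((diagram Z).obj F) T) ((stalkF X x).map (toDiagram Z F T) a) := by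
  rw [rhoApp_eq Z F T]
  exact congr($((stalkF X x).map_comp (toDiagram Z F T) (colimit.ι ((diagram Z).obj F) T)) a)

variable (M : X.Modules)

/-- An element of a stalk is a germ up to a unit. -/
theorem exists_smul_eq_germ [Coh.IsQCoh M] {V : X.Opens} (hV : IsAffineOpen V) {x : X} (hx : x ∈ V)
    (a : M.presheaf.stalk x) :
    ∃ (s : Γ(X, V)) (m : Γ(M, V)), s ∉ (hV.primeIdealOf ⟨x, hx⟩).asIdeal ∧
      X.presheaf.germ V x hx s • a = M.presheaf.germ V x hx m := by
  letI := Groth.L20.ModStalk.stalkModule M hx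
  haveI := Groth.L20.ModStalk.isLocalizedModule_germ M hV hx
  obtain ⟨⟨m, s⟩, h⟩ := IsLocalizedModule.surj (hV.primeIdealOf ⟨x, hx⟩).asIdeal.primeCompl
    (Groth.L20.ModStalk.germₗ M hx) a
  exact ⟨s.1, m, s.2, h⟩

omit [IsLocallyNoetherian X] in
theorem isUnit_germ {V : X.Opens} (hV : IsAffineOpen V) {x : X} (hx : x ∈ V) {s : Γ(X, V)}
    (hs : s ∉ (hV.primeIdealOf ⟨x, hx⟩).asIdeal) : IsUnit (X.presheaf.germ V x hx s) := by
  letI := X.presheaf.algebra_section_stalk ⟨x, hx⟩
  haveI := hV.isLocalization_stalk ⟨x, hx⟩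
  exact IsLocalization.map_units (X.presheaf.stalk x) (⟨s, hs⟩ : (hV.primeIdealOf ⟨x, hx⟩).asIdeal.primeCompl)

omit [IsLocallyNoetherian X] in
theorem germ_mem_maximalIdeal {V : X.Opens} (hV : IsAffineOpen V) {x : X} (hx : x ∈ V) {s : Γ(X, V)}
    (hs : s ∈ (hV.primeIdealOf ⟨x, hx⟩).asIdeal) :
    X.presheaf.germ V x hx s ∈ maximalIdeal (X.presheaf.stalk x) := by
  letI := X.presheaf.algebra_section_stalk ⟨x, hx⟩
  haveI := hV.isLocalization_stalk ⟨x, hx⟩
  exact (IsLocalization.AtPrime.to_map_mem_maximal_iff (X.presheaf.stalk x) _ s).mpr hs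

omit [IsLocallyNoetherian X] in
theorem maximalIdeal_le_span {V : X.Opens} (hV : IsAffineOpen V) {x : X} (hx : x ∈ V) :
    maximalIdeal (X.presheaf.stalk x) ≤
      Ideal.span ((fun s => X.presheaf.germ V x hx s) '' (hV.primeIdealOf ⟨x, hx⟩).asIdeal) := by
  letI := X.presheaf.algebra_section_stalk ⟨x, hx⟩
  haveI := hV.isLocalization_stalk ⟨x, hx⟩
  rw [← IsLocalization.AtPrime.map_eq_maximalIdeal (hV.primeIdealOf ⟨x, hx⟩).asIdeal (X.presheaf.stalk x)]
  exact le_rfl

theorem primeIdealOf_fromSpec' {V : X.Opens} (hV : IsAffineOpen V) (q : Spec Γ(X, V)) :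
    hV.primeIdealOf ⟨hV.fromSpec q, Groth.L19.Ass.fromSpec_mem hV q⟩ = q :=
  Groth.L19.Ass.primeIdealOf_fromSpec hV q _

/-- Nothing in the stalk of a stage at a point of the removed set is killed by the maximal ideal. -/
theorem eq_zero_of_killed (F : X.Modules) [Coh.IsQCoh F] (T : Cl Z) {x : X} (hxT : x ∉ T.U)
    (e : (((diagram Z).obj F).obj T).presheaf.stalk x)
    (he : ∀ b ∈ maximalIdeal (X.presheaf.stalk x), b • e = 0) : e = 0 := by
  haveI := isQCoh_stage F T
  let G := ((diagram Z).obj F).obj T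
  obtain ⟨V, hV, hxV, -⟩ := exists_isAffineOpen_mem_and_subset (x := x) (U := (⊤ : X.Opens)) trivial
  haveI : IsNoetherianRing Γ(X, V) := IsLocallyNoetherian.component_noetherian ⟨V, hV⟩
  let p := (hV.primeIdealOf ⟨x, hxV⟩).asIdeal
  obtain ⟨s, n, hs, hn⟩ := exists_smul_eq_germ G hV hxV e
  -- each element of the prime kills the germ, hence a multiple of the section
  have hb : ∀ b ∈ p, ∃ c ∉ p, c • b • n = 0 := fun b hb => by
    have h0 : G.presheaf.germ V x hxV (b • n) = 0 := by
      rw [Groth.L20.ModStalk.germ_smul, ← hn, smul_comm, he _ (germ_mem_maximalIdeal hV hxV hb), smul_zero]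
    exact Groth.Agent.S5855.exists_smul_eq_zero G hV hxV h0
  choose c hc hcn using hb
  obtain ⟨gens, hgens⟩ := (isNoetherianRing_iff_ideal_fg _).mp this p
  classical
  let g := ∏ b ∈ gens.attach, c b.1 (hgens ▸ Submodule.subset_span b.2)
  have hg : g ∉ p := fun h => by
    obtain ⟨b, -, hb⟩ := ((hV.primeIdealOf ⟨x, hxV⟩).2.prod_mem_iff).mp h
    exact hc _ _ hb
  have hk : ∀ b ∈ p, b • g • n = 0 := by
    intro b hb
    rw [← hgens] at hb
    induction hb using Submodule.span_induction with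
    | mem b hb =>
      obtain ⟨d, hd⟩ := Finset.dvd_prod_of_mem (fun b : {b // b ∈ gens} => c b.1 (hgens ▸ Submodule.subset_span b.2))
        (Finset.mem_attach _ ⟨b, hb⟩)
      show b • g • n = 0
      rw [show g = c b (hgens ▸ Submodule.subset_span hb) * d from hd, mul_comm, mul_smul, smul_comm b d,
        smul_comm b (c b _), hcn, smul_zero]
    | zero => exact zero_smul _ _
    | add a b _ _ ha hb => rw [add_smul, ha, hb, add_zero]
    | smul r a _ ha => rw [smul_assoc, ha, smul_zero]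
  have h0 : g • n = (0 : Γ(G, V)) := stage_ext F T fun z hzV hzT => by
    rw [map_zero]
    obtain ⟨b, hbp, hbz⟩ : ∃ b ∈ p, b ∉ (hV.primeIdealOf ⟨z, hzV⟩).asIdeal := Set.not_subset.mp fun hle => by
      exact hxT ((Groth.Agent.S5855.specializes_of_le hV hxV hzV hle).mem_open T.U.2 hzT)
    have := congrArg (G.presheaf.germ V z hzV) (hk b hbp)
    rw [Groth.L20.ModStalk.germ_smul, map_zero, (isUnit_germ hV hzV hbz).smul_eq_zero] at this
    exact this
  have := congrArg (G.presheaf.germ V x hxV) h0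
  rw [Groth.L20.ModStalk.germ_smul, map_zero, (isUnit_germ hV hxV hg).smul_eq_zero, ← hn,
    (isUnit_germ hV hxV hs).smul_eq_zero] at this
  exact this

/-- Depth two at the generizations in the removed set makes the unit surjective on stalks. -/
theorem surjective_toDiagram_stalk (hZ : StableUnderSpecialization Z) (F : X.Modules) (hF : Coh.IsCoh F)
    (T : Cl Z) (x : X)
    (hd : ∀ w : X, w ⤳ x → w ∈ Z → (2 : ℕ∞) ≤ LocCoh.depth (X.presheaf.stalk w) (F.presheaf.stalk w)) :
    Function.Surjective ((stalkF X x).map (toDiagram Z F T)) := by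
  haveI : Coh.IsQCoh F := hF.1
  haveI := isQCoh_stage F T
  let G := ((diagram Z).obj F).obj T
  let ψ := fun y : X => Groth.L19.Ass.stalkMapₗ (toDiagram Z F T) y
  obtain ⟨V, hV, hxV, -⟩ := exists_isAffineOpen_mem_and_subset (x := x) (U := (⊤ : X.Opens)) trivial
  haveI : IsNoetherianRing Γ(X, V) := IsLocallyNoetherian.component_noetherian ⟨V, hV⟩
  let φ : Γ(F, V) →ₗ[Γ(X, V)] Γ(G, V) :=
    { toFun := fun m => (toDiagram Z F T).app V m
      map_add' := map_add _
      map_smul' := fun r m => Scheme.Modules.Hom.app_smul _ _ _ }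
  let p := (hV.primeIdealOf ⟨x, hxV⟩).asIdeal
  suffices H : ∀ n : Γ(G, V), ∃ c ∉ p, c • n ∈ LinearMap.range φ by
    intro a
    obtain ⟨s, n, hs, hn⟩ := exists_smul_eq_germ G hV hxV a
    obtain ⟨c, hc, m, hm⟩ := H n
    obtain ⟨v, hv⟩ := (isUnit_germ hV hxV hs).mul (isUnit_germ hV hxV hc) |>.exists_left_inv
    refine ⟨v • F.presheaf.germ V x hxV m, ?_⟩
    show ψ x (v • F.presheaf.germ V x hxV m) = a
    rw [map_smul]
    have e : ψ x (F.presheaf.germ V x hxV m) = G.presheaf.germ V x hxV (φ m) :=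
      stalkF_map_germ (toDiagram Z F T) V x hxV m
    rw [e, hm, Groth.L20.ModStalk.germ_smul, ← hn, smul_smul, smul_smul,
      show v * X.presheaf.germ V x hxV c * X.presheaf.germ V x hxV s = 1 by rw [← hv]; ring, one_smul]
  intro n
  by_contra hall
  push_neg at hall
  let q₀ : Γ(G, V) ⧸ LinearMap.range φ := Submodule.Quotient.mk n
  let N := Submodule.span Γ(X, V) ({q₀} : Set (Γ(G, V) ⧸ LinearMap.range φ))
  haveI : Module.Finite Γ(X, V) N := Module.Finite.iff_fg.2 (Submodule.fg_span_singleton q₀)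
  have hle : Module.annihilator Γ(X, V) N ≤ p := fun c hc => by
    by_contra hcp
    refine hall c hcp ?_
    rw [← Submodule.Quotient.mk_eq_zero, Submodule.Quotient.mk_smul]
    exact (Submodule.mem_annihilator_span_singleton q₀ c).mp hc
  obtain ⟨q, hq, hqp⟩ := Ideal.exists_minimalPrimes_le hle
  haveI hqp' : q.IsPrime := hq.1.1
  obtain ⟨-, e, he⟩ := isAssociatedPrime_iff.1 (associatedPrimes.subset_of_injective N.injective_subtype
    (Module.associatedPrimes.minimalPrimes_annihilator_subset_associatedPrimes Γ(X, V) N hq))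
  obtain ⟨n', rfl⟩ := Submodule.Quotient.mk_surjective _ e
  let w := hV.fromSpec ⟨q, hqp'⟩
  have hwV : w ∈ V := Groth.L19.Ass.fromSpec_mem hV _
  have hwq : (hV.primeIdealOf ⟨w, hwV⟩).asIdeal = q :=
    congrArg PrimeSpectrum.asIdeal (primeIdealOf_fromSpec' hV ⟨q, hqp'⟩)
  have hwx : w ⤳ x := Groth.Agent.S5855.specializes_of_le hV hwV hxV (hwq.trans_le hqp)
  have hmem : ∀ c, c • n' ∈ LinearMap.range φ ↔ c ∈ q := fun c => by
    rw [he, Submodule.mem_colon_singleton, Submodule.mem_bot, ← Submodule.Quotient.mk_smul,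
      Submodule.Quotient.mk_eq_zero]
  have hrange : G.presheaf.germ V w hwV n' ∈ LinearMap.range (ψ w) := by
    by_cases hwT : w ∈ T.U
    · exact (bijective_toDiagram_stalk F T hwT).2 _
    · have hwZ : w ∈ Z := T.2 (not_not.mp hwT)
      haveI : Module.Finite (X.presheaf.stalk w) (F.presheaf.stalk w) :=
        Groth.L19.SupportPullback.finite_stalk F hF w
      refine mem_range_of_two_le_depth (ψ w) (fun a b hab => ?_) (eq_zero_of_killed F T hwT) (hd w hwx hwZ) _
        (fun b hb => ?_)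
      · refine ((Groth.Agent.S5855.result X Z hZ F hF w).2 fun w' hw' hw'Z => ?_) ?_
        · exact le_trans (by norm_num) (hd w' (hw'.trans hwx) hw'Z)
        · show (stalkF X w).map (rhoApp Z F) a = (stalkF X w).map (rhoApp Z F) b
          rw [rho_stalk_eq F T, rho_stalk_eq F T]
          exact congrArg _ hab
      · have hb' := maximalIdeal_le_span hV hwV hb
        clear hb
        induction hb' using Submodule.span_induction with
        | mem b hb =>
          obtain ⟨c, hc, rfl⟩ := hb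
          obtain ⟨m, hm⟩ := (hmem c).mpr (hwq.le hc)
          refine ⟨F.presheaf.germ V w hwV m, ?_⟩
          rw [← Groth.L20.ModStalk.germ_smul, ← hm]
          exact stalkF_map_germ (toDiagram Z F T) V w hwV m
        | zero => rw [zero_smul]; exact zero_mem _
        | add a b _ _ ha hb => rw [add_smul]; exact add_mem ha hb
        | smul r a _ ha => rw [smul_assoc]; exact Submodule.smul_mem _ _ ha
  obtain ⟨μ, hμ⟩ := hrange
  obtain ⟨s, m, hs, hsm⟩ := exists_smul_eq_germ F hV hwV μ
  have h0 : G.presheaf.germ V w hwV (s • n' - φ m) = 0 := by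
    rw [map_sub, Groth.L20.ModStalk.germ_smul, ← hμ, ← map_smul, hsm, sub_eq_zero]
    exact stalkF_map_germ (toDiagram Z F T) V w hwV m
  obtain ⟨t, ht, htm⟩ := Groth.Agent.S5855.exists_smul_eq_zero G hV hwV h0
  rw [smul_sub, sub_eq_zero, smul_smul, ← map_smul] at htm
  exact hqp'.mul_notMem (hwq ▸ ht) (hwq ▸ hs) ((hmem _).mp ⟨_, htm.symm⟩)

/-- Depth two at the generizations in `Z` gives closedness. -/
theorem isZClosedAt_of_depth (hZ : StableUnderSpecialization Z) (F : X.Modules) (hF : Coh.IsCoh F) (x : X)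
    (hd : ∀ w : X, w ⤳ x → w ∈ Z → (2 : ℕ∞) ≤ LocCoh.depth (X.presheaf.stalk w) (F.presheaf.stalk w)) :
    IsZClosedAt Z F x := by
  refine ⟨(Groth.Agent.S5855.result X Z hZ F hF x).2 fun w hw hwZ => le_trans (by norm_num) (hd w hw hwZ),
    fun y => ?_⟩
  haveI : PreservesColimitsOfSize.{u, u} (stalkF X x) := Groth.L00.Stk.preservesColimits_stalkF x
  let hS := isColimitOfPreserves (stalkF X x) (colimit.isColimit ((diagram Z).obj F))
  obtain ⟨T, b, hb⟩ := Concrete.isColimit_exists_rep (((diagram Z).obj F) ⋙ stalkF X x) hS y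
  obtain ⟨a, rfl⟩ := surjective_toDiagram_stalk hZ F hF T x hd b
  exact ⟨a, (rho_stalk_eq F T x a).trans hb⟩

end Groth.L19.ZClos
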