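import Groth.Agent.L19.ZClos.Closed
import Groth.Agent.L16.HomSh.Basic

/-!
# Closedness at a point gives depth at least two
-/

set_option autoImplicit false
set_option linter.style.haveILetI false
set_option backward.isDefEq.respectTransparency.types false
set_option backward.isDefEq.respectTransparency false

universe u

open CategoryTheory CategoryTheory.Limits AlgebraicGeometry TopologicalSpace Opposite IsLocalRing

noncomputable section

namespace Groth.L19.ZClos

open _root_.ZClos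
open Groth.L18.Frame (rs ro rs_rs rs_self rs_smul)
open Groth.L21.Mod (stalkF stalkF_map_germ)

variable {X : Scheme.{u}}

/-- A map of quasi-coherent modules bijective on the stalk at `x` is bijective at its generizations. -/
theorem bijective_stalk_of_specializes [IsLocallyNoetherian X] {P Q : X.Modules} [Coh.IsQCoh P] [Coh.IsQCoh Q] (u : P ⟶ Q)
    {x w : X} (h : w ⤳ x) (hb : Function.Bijective ((stalkF X x).map u)) :
    Function.Bijective ((stalkF X w).map u) := by
  obtain ⟨V, hV, hxV, -⟩ := exists_isAffineOpen_mem_and_subset (x := x) (U := (⊤ : X.Opens)) trivial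
  have hwV : w ∈ V := h.mem_open V.2 hxV
  have hle := primeIdealOf_le hV hwV hxV h
  let ψ := fun y : X => Groth.L19.Ass.stalkMapₗ u y
  refine ⟨(injective_iff_map_eq_zero _).2 fun a ha => ?_, fun (b : Q.presheaf.stalk w) => ?_⟩
  · obtain ⟨s, m, hs, hm⟩ := exists_smul_eq_germ P hV hwV a
    have h0 : Q.presheaf.germ V w hwV (u.app V m) = 0 := by
      rw [← stalkF_map_germ u V w hwV m]
      show ψ w (P.presheaf.germ V w hwV m) = 0
      rw [← hm, map_smul]
      exact (congrArg _ ha).trans (smul_zero _)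
    obtain ⟨t, ht, htm⟩ := Groth.Agent.S5855.exists_smul_eq_zero Q hV hwV h0
    have h1 : P.presheaf.germ V x hxV (t • m) = 0 := hb.1 (by
      rw [stalkF_map_germ u V x hxV, Scheme.Modules.Hom.app_smul, htm, map_zero, map_zero])
    obtain ⟨c, hc, hcm⟩ := Groth.Agent.S5855.exists_smul_eq_zero P hV hxV h1
    have h2 := congrArg (P.presheaf.germ V w hwV) hcm
    rw [Groth.L20.ModStalk.germ_smul, Groth.L20.ModStalk.germ_smul, map_zero,
      (isUnit_germ hV hwV (fun hh => hc (hle hh))).smul_eq_zero, (isUnit_germ hV hwV ht).smul_eq_zero,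
      ← hm, (isUnit_germ hV hwV hs).smul_eq_zero] at h2
    exact h2
  · obtain ⟨s, n, hs, hn⟩ := exists_smul_eq_germ Q hV hwV b
    obtain ⟨a, ha⟩ := hb.2 (Q.presheaf.germ V x hxV n)
    obtain ⟨t, m, ht, hm⟩ := exists_smul_eq_germ P hV hxV a
    have h1 : Q.presheaf.germ V x hxV (t • n - u.app V m) = 0 := by
      rw [map_sub, Groth.L20.ModStalk.germ_smul, ← stalkF_map_germ u V x hxV m, ← ha, sub_eq_zero]
      show _ = ψ x (P.presheaf.germ V x hxV m)
      rw [← hm, map_smul]
      rfl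
    obtain ⟨c, hc, hcm⟩ := Groth.Agent.S5855.exists_smul_eq_zero Q hV hxV h1
    rw [smul_sub, sub_eq_zero, smul_smul, ← Scheme.Modules.Hom.app_smul] at hcm
    have hu := (isUnit_germ hV hwV hs).mul
      ((isUnit_germ hV hwV (fun hh => hc (hle hh))).mul (isUnit_germ hV hwV (fun hh => ht (hle hh))))
    obtain ⟨v, hv⟩ := hu.exists_left_inv
    refine ⟨v • P.presheaf.germ V w hwV (c • m), ?_⟩
    show ψ w (v • P.presheaf.germ V w hwV (c • m)) = b
    rw [map_smul]
    have e : ψ w (P.presheaf.germ V w hwV (c • m)) = Q.presheaf.germ V w hwV (u.app V (c • m)) :=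
      stalkF_map_germ u V w hwV (c • m)
    rw [e, ← hcm, Groth.L20.ModStalk.germ_smul, ← hn, map_mul, smul_smul, smul_smul]
    refine Eq.trans (congrArg (· • b) ?_) (one_smul _ b)
    rw [← hv]; ring

variable [IsLocallyNoetherian X] {Z : Set X}

/-- Closedness at a point gives depth two at the generizations in `Z`. -/
theorem depth_of_isZClosedAt (hZ : StableUnderSpecialization Z) (F : X.Modules) (hF : Coh.IsCoh F) (x : X)
    (hc : IsZClosedAt Z F x) (w : X) (hwx : w ⤳ x) (hwZ : w ∈ Z) :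
    (2 : ℕ∞) ≤ LocCoh.depth (X.presheaf.stalk w) (F.presheaf.stalk w) := by
  haveI : Coh.IsQCoh F := hF.1
  haveI : Coh.IsQCoh ((H0 Z).obj F) := Groth.Agent.S5841.result X Z hZ F hF.1
  have hbw : Function.Bijective ((stalkF X w).map (rhoApp Z F)) :=
    bijective_stalk_of_specializes (rhoApp Z F) hwx hc
  let R := X.presheaf.stalk w
  let M := F.presheaf.stalk w
  haveI : Module.Finite R M := Groth.L19.SupportPullback.finite_stalk F hF w
  have h1 : (1 : ℕ∞) ≤ LocCoh.depth R M :=
    (Groth.Agent.S5855.result X Z hZ F hF w).1 hbw.1 w specializes_rfl hwZ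
  by_contra hlt
  obtain ⟨a, ha, hreg⟩ : ∃ a ∈ maximalIdeal R, IsSMulRegular M a := by
    refine (Groth.L04.exists_regular_or_killed (maximalIdeal R) M).resolve_right ?_
    rintro ⟨e, he0, he⟩
    have h0 := Groth.L01.depth_eq_zero_of_smul_eq_zero (m := e) he0 he
    rw [h0] at h1
    exact absurd h1 (by simp)
  have hadd : LocCoh.depth R (QuotSMulTop a M) + 1 = LocCoh.depth R M :=
    Groth.L04.idealDepth_quotSMulTop_add_one ha hreg
  obtain ⟨e, he0, he⟩ : ∃ e : QuotSMulTop a M, e ≠ 0 ∧ ∀ b ∈ maximalIdeal R, b • e = 0 := by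
    refine (Groth.L04.exists_regular_or_killed (maximalIdeal R) (QuotSMulTop a M)).resolve_left ?_
    rintro ⟨b, hb, hbr⟩
    refine hlt ?_
    rw [← hadd, show (2 : ℕ∞) = 1 + 1 from (one_add_one_eq_two).symm]
    exact add_le_add (Groth.L01.one_le_depth hb hbr) le_rfl
  obtain ⟨μ, rfl⟩ := Submodule.Quotient.mk_surjective _ e
  obtain ⟨V, hV, hwV, -⟩ := exists_isAffineOpen_mem_and_subset (x := w) (U := (⊤ : X.Opens)) trivial
  haveI : IsNoetherianRing Γ(X, V) := IsLocallyNoetherian.component_noetherian ⟨V, hV⟩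
  haveI := Groth.L20.ModStalk.finite_sections F hF hV
  let p := (hV.primeIdealOf ⟨w, hwV⟩).asIdeal
  obtain ⟨a₀, s, hs, has⟩ : ∃ (a₀ : Γ(X, V)) (s : Γ(X, V)), s ∉ p ∧
      X.presheaf.germ V w hwV s * a = X.presheaf.germ V w hwV a₀ := by
    letI := X.presheaf.algebra_section_stalk ⟨w, hwV⟩
    haveI := hV.isLocalization_stalk ⟨w, hwV⟩
    obtain ⟨⟨a₀, s⟩, h⟩ := IsLocalization.surj p.primeCompl a
    exact ⟨a₀, s.1, s.2, (mul_comm _ _).trans h⟩
  obtain ⟨s', m, hs', hm⟩ := exists_smul_eq_germ F hV hwV μ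
  have hsu := isUnit_germ hV hwV hs
  have hreg₀ : IsSMulRegular M (X.presheaf.germ V w hwV a₀) := by
    rw [← has]; exact (hsu.isSMulRegular M).mul hreg
  have hkill : ∀ b ∈ maximalIdeal R, ∃ ν : M, b • μ = a • ν := fun b hb => by
    have := he b hb
    rw [← Submodule.Quotient.mk_smul, Submodule.Quotient.mk_eq_zero,
      Submodule.mem_smul_pointwise_iff_exists] at this
    obtain ⟨ν, -, hν⟩ := this
    exact ⟨ν, hν.symm⟩
  have hb : ∀ b ∈ p, ∃ (c : Γ(X, V)) (ν : Γ(F, V)), c ∉ p ∧ c • b • m = a₀ • ν := fun b hb => by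
    obtain ⟨ν, hν⟩ := hkill _ (germ_mem_maximalIdeal hV hwV hb)
    obtain ⟨t, ν₁, ht, hν₁⟩ := exists_smul_eq_germ F hV hwV ν
    have h0 : F.presheaf.germ V w hwV ((s * t) • b • m - a₀ • (s' • ν₁)) = 0 := by
      rw [map_sub, Groth.L20.ModStalk.germ_smul, Groth.L20.ModStalk.germ_smul, Groth.L20.ModStalk.germ_smul,
        Groth.L20.ModStalk.germ_smul, ← hm, ← hν₁, ← has, map_mul,
        smul_comm (X.presheaf.germ V w hwV b) (X.presheaf.germ V w hwV s') μ, hν]
      simp only [smul_smul]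
      rw [sub_eq_zero]
      congr 1
      ring
    obtain ⟨c, hc, hcm⟩ := Groth.Agent.S5855.exists_smul_eq_zero F hV hwV h0
    refine ⟨c * (s * t), c • s' • ν₁, (hV.primeIdealOf ⟨w, hwV⟩).2.mul_notMem hc
      ((hV.primeIdealOf ⟨w, hwV⟩).2.mul_notMem hs ht), ?_⟩
    rw [smul_sub, sub_eq_zero] at hcm
    rw [mul_smul, hcm, smul_comm]
  choose c ν hc hcm using hb
  obtain ⟨gens, hgens⟩ := (isNoetherianRing_iff_ideal_fg _).mp ‹IsNoetherianRing Γ(X, V)› p
  -- `a₀` is regular away from the kernel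
  let K := LinearMap.ker (LinearMap.lsmul Γ(X, V) Γ(F, V) a₀)
  have hK : ∀ k ∈ K, ∃ d ∉ p, d • k = 0 := fun k hk => by
    refine Groth.Agent.S5855.exists_smul_eq_zero F hV hwV (hreg₀ ?_)
    show X.presheaf.germ V w hwV a₀ • F.presheaf.germ V w hwV k = X.presheaf.germ V w hwV a₀ • 0
    rw [← Groth.L20.ModStalk.germ_smul, smul_zero]
    have h0 : a₀ • k = 0 := hk
    rw [h0, map_zero]
  choose d hd hdk using hK
  haveI : IsNoetherian Γ(X, V) Γ(F, V) := isNoetherian_of_isNoetherianRing_of_finite _ _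
  obtain ⟨kgens, hkgens⟩ := (IsNoetherian.noetherian K : K.FG)
  classical
  let g₁ := ∏ b ∈ gens.attach, c b.1 (hgens ▸ Submodule.subset_span b.2)
  let g₂ := ∏ b ∈ kgens.attach, d b.1 (hkgens ▸ Submodule.subset_span b.2)
  let g := g₁ * g₂
  have hp := (hV.primeIdealOf ⟨w, hwV⟩).2
  have hg₁ : g₁ ∉ p := fun h => by
    obtain ⟨b, -, hb⟩ := (hp.prod_mem_iff).mp h
    exact hc _ _ hb
  have hg₂ : g₂ ∉ p := fun h => by
    obtain ⟨b, -, hb⟩ := (hp.prod_mem_iff).mp h
    exact hd _ _ hb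
  have hsolve : ∀ b : {b // b ∈ gens}, ∃ ν' : Γ(F, V), a₀ • ν' = b.1 • g • m := fun b => by
    obtain ⟨e, he⟩ := Finset.dvd_prod_of_mem (fun b : {b // b ∈ gens} => c b.1 (hgens ▸ Submodule.subset_span b.2))
      (Finset.mem_attach _ b)
    refine ⟨(e * g₂) • ν b.1 (hgens ▸ Submodule.subset_span b.2), ?_⟩
    rw [smul_comm, ← hcm, show g = c b.1 (hgens ▸ Submodule.subset_span b.2) * (e * g₂) by
      rw [show g = g₁ * g₂ from rfl, show g₁ = _ from he]; ring]
    simp only [smul_smul]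
    congr 1
    ring
  choose ν' hν' using hsolve
  have hregz : ∀ z : X, ∀ hz : z ∈ V, g ∉ (hV.primeIdealOf ⟨z, hz⟩).asIdeal →
      IsSMulRegular (F.presheaf.stalk z) (X.presheaf.germ V z hz a₀) := by
    intro z hz hgz
    rw [isSMulRegular_iff_right_eq_zero_of_smul]
    intro e he
    obtain ⟨t, k, ht, hk⟩ := exists_smul_eq_germ F hV hz e
    have h0 : F.presheaf.germ V z hz (a₀ • k) = 0 := by
      rw [Groth.L20.ModStalk.germ_smul, ← hk, smul_comm, he, smul_zero]
    obtain ⟨t', ht', htk⟩ := Groth.Agent.S5855.exists_smul_eq_zero F hV hz h0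
    have hkK : t' • k ∈ K := by
      show a₀ • t' • k = 0
      rw [smul_comm]; exact htk
    have hgk : ∀ k' ∈ K, g • k' = 0 := by
      intro k' hk'
      rw [← hkgens] at hk'
      induction hk' using Submodule.span_induction with
      | mem b hb =>
        obtain ⟨e, he⟩ := Finset.dvd_prod_of_mem
          (fun b : {b // b ∈ kgens} => d b.1 (hkgens ▸ Submodule.subset_span b.2)) (Finset.mem_attach _ ⟨b, hb⟩)
        rw [show g = g₁ * e * d b (hkgens ▸ Submodule.subset_span hb) by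
          rw [show g = g₁ * g₂ from rfl, show g₂ = _ from he]; ring, mul_smul, hdk, smul_zero]
      | zero => exact smul_zero _
      | add a b _ _ ha hb => rw [smul_add, ha, hb, add_zero]
      | smul r a _ ha => rw [smul_comm, ha, smul_zero]
    have h1 := congrArg (F.presheaf.germ V z hz) (hgk _ hkK)
    rw [Groth.L20.ModStalk.germ_smul, Groth.L20.ModStalk.germ_smul, map_zero,
      (isUnit_germ hV hz hgz).smul_eq_zero, (isUnit_germ hV hz ht').smul_eq_zero, ← hk,
      (isUnit_germ hV hz ht).smul_eq_zero] at h1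
    exact h1
  -- the section off the closure of `w`
  let T : Cl Z := ⟨⟨closure {w}, isClosed_closure⟩,
    fun y hy => hZ (specializes_iff_mem_closure.2 hy) hwZ⟩
  let G := ((diagram Z).obj F).obj T
  let D := X.basicOpen g
  have hDV : D ≤ V := X.basicOpen_le g
  let O := T.U.ι ''ᵁ T.U.ι ⁻¹ᵁ D
  have hOV : O ≤ V := (T.U.ι.image_preimage_le D).trans hDV
  let W : {b // b ∈ gens} → X.Opens := fun b => O ⊓ X.basicOpen b.1
  have hWV : ∀ b, W b ≤ V := fun b => inf_le_left.trans hOV
  have hgD : ∀ z (hz : z ∈ D), g ∉ (hV.primeIdealOf ⟨z, hDV hz⟩).asIdeal := fun z hz hmem =>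
    (mem_maximalIdeal _).mp (germ_mem_maximalIdeal hV (hDV hz) hmem)
      ((Scheme.mem_basicOpen X g z (hDV hz)).mp hz)
  have hloc : ∀ b, ∃ σ : Γ(F, W b), ro (hWV b) b.1 • σ = rs F (hWV b) (ν' b) := fun b => by
    have hu : IsUnit (ro (hWV b) b.1) := by
      have h1 := RingedSpace.isUnit_res_basicOpen X.toRingedSpace b.1
      have h2 := h1.map (X.presheaf.map (homOfLE (inf_le_right : W b ≤ X.basicOpen b.1)).op).hom
      erw [← CommRingCat.comp_apply, ← Functor.map_comp] at h2
      exact h2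
    obtain ⟨v, hv⟩ := hu.exists_right_inv
    exact ⟨v • rs F (hWV b) (ν' b), by rw [smul_smul, hv, one_smul]⟩
  choose σ hσ using hloc
  have hgerm : ∀ (b : {b // b ∈ gens}) (z : X) (hz : z ∈ W b),
      X.presheaf.germ V z (hWV b hz) a₀ • F.presheaf.germ (W b) z hz (σ b) =
        F.presheaf.germ V z (hWV b hz) (g • m) := fun b z hz => by
    have hbu : IsUnit (X.presheaf.germ V z (hWV b hz) b.1) := (Scheme.mem_basicOpen X b.1 z _).mp hz.2
    have h1 := congrArg (F.presheaf.germ (W b) z hz) (hσ b)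
    rw [Groth.L20.ModStalk.germ_smul, germ_rs'] at h1
    have e : X.presheaf.germ (W b) z hz (ro (hWV b) b.1) = X.presheaf.germ V z (hWV b hz) b.1 :=
      TopCat.Presheaf.germ_res_apply X.presheaf (homOfLE (hWV b)) z hz b.1
    rw [e] at h1
    refine hbu.isSMulRegular _ ?_
    show X.presheaf.germ V z (hWV b hz) b.1 • _ = X.presheaf.germ V z (hWV b hz) b.1 • _
    rw [smul_comm, h1, ← Groth.L20.ModStalk.germ_smul, hν', Groth.L20.ModStalk.germ_smul]
  have hzD : ∀ {z}, z ∈ O → z ∈ D := fun hz => T.U.ι.image_preimage_le D hz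
  obtain ⟨n, hn⟩ := Groth.L16.HomSh.exists_glue F W (W := O) (fun b => inf_le_left) (fun z hz => by
      obtain ⟨hzT, hzD'⟩ := (image_eq T D).le hz
      obtain ⟨b, hb, hbz⟩ : ∃ b ∈ gens, b ∉ (hV.primeIdealOf ⟨z, hDV hzD'⟩).asIdeal := by
        by_contra hh
        push_neg at hh
        refine hzT (specializes_iff_mem_closure.1
          (Groth.Agent.S5855.specializes_of_le hV hwV (hDV hzD') ?_))
        intro b hb
        have hb' : b ∈ p := hb
        rw [← hgens] at hb'
        exact Submodule.span_le.mpr hh hb'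
      exact TopologicalSpace.Opens.mem_iSup.2 ⟨⟨b, hb⟩, hz,
        (Scheme.mem_basicOpen X b z (hDV hzD')).2 (isUnit_germ hV (hDV hzD') hbz)⟩)
    σ (fun i j => section_ext fun z hz => by
      rw [germ_rs', germ_rs']
      refine hregz z (hWV i hz.1) (hgD z (hzD hz.1.1)) ?_
      show _ • _ = _ • _
      rw [hgerm i z hz.1, ← hgerm j z hz.2])
  let n' : Γ(G, D) := n
  have hnD : ∀ (z : X) (hz : z ∈ D), z ∈ T.U →
      X.presheaf.germ V z (hDV hz) a₀ • G.presheaf.germ D z hz n' =
        (stalkF X z).map (toDiagram Z F T) (F.presheaf.germ V z (hDV hz) (g • m)) := by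
    intro z hz hzT
    have hzO : z ∈ O := (image_eq T D).ge ⟨hzT, hz⟩
    have hcov : ∃ b, z ∈ W b := by
      by_contra hh
      push_neg at hh
      refine hzT (specializes_iff_mem_closure.1
        (Groth.Agent.S5855.specializes_of_le hV hwV (hDV hz) ?_))
      intro b hb
      have hb' : b ∈ p := hb
      rw [← hgens] at hb'
      refine Submodule.span_le.mpr (fun b hb => ?_) hb'
      by_contra hbz
      exact hh ⟨b, hb⟩ ⟨hzO, (Scheme.mem_basicOpen X b z (hDV hz)).2 (isUnit_germ hV (hDV hz) hbz)⟩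
    obtain ⟨b, hzb⟩ := hcov
    rw [germ_stage F T n' hz hzT]
    refine ((Groth.L19.Ass.stalkMapₗ (toDiagram Z F T) z).map_smul _ _).symm.trans (congrArg _ ?_)
    rw [← germ_rs' (F := F) (inf_le_left : W b ≤ O) hzb n, hn b]
    exact hgerm b z hzb
  have hwD : w ∈ D := (Scheme.mem_basicOpen X g w hwV).2 (isUnit_germ hV hwV (hp.mul_notMem hg₁ hg₂))
  have heq : ro hDV a₀ • n' = rs G hDV ((toDiagram Z F T).app V (g • m)) := stage_ext F T fun z hz hzT => by
    rw [Groth.L20.ModStalk.germ_smul, germ_rs', ← stalkF_map_germ (toDiagram Z F T) V z (hDV hz),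
      ← hnD z hz hzT]
    congr 1
    exact TopCat.Presheaf.germ_res_apply X.presheaf (homOfLE hDV) z hz a₀
  have hw := congrArg (G.presheaf.germ D w hwD) heq
  rw [Groth.L20.ModStalk.germ_smul, germ_rs', ← stalkF_map_germ (toDiagram Z F T) V w hwV] at hw
  have e : X.presheaf.germ D w hwD (ro hDV a₀) = X.presheaf.germ V w hwV a₀ :=
    TopCat.Presheaf.germ_res_apply X.presheaf (homOfLE hDV) w hwD a₀
  rw [e, Groth.L20.ModStalk.germ_smul, ← hm, ← has] at hw
  -- push to the closure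
  let ι : G.presheaf.stalk w →ₗ[R] ((H0 Z).obj F).presheaf.stalk w :=
    Groth.L19.Ass.stalkMapₗ (colimit.ι ((diagram Z).obj F) T) w
  let ρ := Groth.L19.Ass.stalkMapₗ (rhoApp Z F) w
  obtain ⟨κ, hκ⟩ : ∃ κ : M, ρ κ = ι (G.presheaf.germ D w hwD n') := hbw.2 _
  have hρ : ρ ((X.presheaf.germ V w hwV g * X.presheaf.germ V w hwV s') • μ) =
      (X.presheaf.germ V w hwV s * a) • ρ κ := by
    rw [hκ, ← map_smul]
    refine (rho_stalk_eq F T w _).trans ?_
    rw [mul_smul]
    exact (congrArg ι hw).symm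
  rw [← map_smul] at hρ
  have hμ : (X.presheaf.germ V w hwV g * X.presheaf.germ V w hwV s') • μ =
      (X.presheaf.germ V w hwV s * a) • κ := hbw.1 hρ
  obtain ⟨v, hv⟩ := ((isUnit_germ hV hwV (hp.mul_notMem hg₁ hg₂)).mul (isUnit_germ hV hwV hs')).exists_left_inv
  refine he0 ?_
  rw [Submodule.Quotient.mk_eq_zero, Submodule.mem_smul_pointwise_iff_exists]
  refine ⟨(v * X.presheaf.germ V w hwV s) • κ, trivial, ?_⟩
  have h2 := congrArg (fun y => v • y) hμ
  simp only [smul_smul] at h2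
  rw [hv, one_smul] at h2
  rw [h2, smul_smul]
  congr 1
  ring

end Groth.L19.ZClos
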