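import Groth.Agent.L19.ZClos.Depth
import Groth.Agent.L04.DepthLoc

/-!
# The height of a point in the closure of a generization, computed in an affine chart
-/

set_option autoImplicit false
set_option linter.style.haveILetI false
set_option backward.isDefEq.respectTransparency.types false
set_option backward.isDefEq.respectTransparency false

universe u

open CategoryTheory AlgebraicGeometry TopologicalSpace IsLocalRing

noncomputable section

namespace Groth.L19.ZClos

variable {X : Scheme.{u}}

theorem height_quotient_of_ringKrullDim {V : X.Opens} (hV : IsAffineOpen V) {a b : X} (ha : a ∈ V) (hb : b ∈ V)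
    (h : a ⤳ b) (x y : PrimeSpectrum Γ(X, V)) (hx : hV.primeIdealOf ⟨a, ha⟩ = x)
    (hy : hV.primeIdealOf ⟨b, hb⟩ = y) {n : ℕ∞}
    (hn : (n : WithBot ℕ∞) ≤ ringKrullDim (X.presheaf.stalk b ⧸
      (maximalIdeal (X.presheaf.stalk a)).comap (X.presheaf.stalkSpecializes h).hom)) :
    n ≤ (y.asIdeal.map (Ideal.Quotient.mk x.asIdeal)).height := by
  subst hx hy
  letI := X.presheaf.algebra_section_stalk ⟨a, ha⟩
  letI := X.presheaf.algebra_section_stalk ⟨b, hb⟩
  haveI := hV.isLocalization_stalk ⟨a, ha⟩
  haveI := hV.isLocalization_stalk ⟨b, hb⟩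
  set p := (hV.primeIdealOf ⟨a, ha⟩).asIdeal with hp
  set s := (hV.primeIdealOf ⟨b, hb⟩).asIdeal with hs
  have hps : p ≤ s := primeIdealOf_le hV ha hb h
  rw [← WithBot.coe_le_coe, ← Groth.L04.ringKrullDim_localization_quotient hps]
  refine hn.trans (le_of_eq ?_)
  let e : X.presheaf.stalk b ≃ₐ[Γ(X, V)] Localization.AtPrime s :=
    IsLocalization.algEquiv s.primeCompl _ _
  have hq : ((maximalIdeal (X.presheaf.stalk a)).comap (X.presheaf.stalkSpecializes h).hom).comap
      (algebraMap Γ(X, V) (X.presheaf.stalk b)) = p := by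
    refine Eq.trans ?_ (IsLocalization.AtPrime.under_maximalIdeal (X.presheaf.stalk a) p)
    rw [Ideal.comap_comap]
    show _ = (maximalIdeal (X.presheaf.stalk a)).comap (algebraMap Γ(X, V) (X.presheaf.stalk a))
    congr 1
    show (X.presheaf.germ V b hb ≫ X.presheaf.stalkSpecializes h).hom = _
    rw [X.presheaf.germ_stalkSpecializes]
    rfl
  refine ringKrullDim_eq_of_ringEquiv (Ideal.quotientEquiv _ _ e.toRingEquiv ?_)
  rw [← hq]
  have h1 := (IsLocalization.map_under s.primeCompl (X.presheaf.stalk b)
    ((maximalIdeal (X.presheaf.stalk a)).comap (X.presheaf.stalkSpecializes h).hom))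
  conv_rhs => rw [← h1, Ideal.map_map]
  congr 1
  ext r
  exact (e.commutes r).symm

end Groth.L19.ZClos
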