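import Groth.Agent.L19.ZClos.Lift
import Groth.Agent.L19.Ass.Basic
import Groth.Agent.L20.ModStalk
import Mathlib.RingTheory.Ideal.Height

/-!
# Stalks of the closure outside `Z`, associated points and specializations
-/

set_option autoImplicit false
set_option linter.style.haveILetI false
set_option backward.isDefEq.respectTransparency.types false
set_option backward.isDefEq.respectTransparency false

universe u

open CategoryTheory CategoryTheory.Limits AlgebraicGeometry TopologicalSpace Opposite IsLocalRing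

noncomputable section

namespace Groth.L19.ZClos

open _root_.ZClos

variable {X : Scheme.{u}} {Z : Set X}

/-- Outside `Z` the closure has the stalk of the module. -/
def stalkEquivOff (F : X.Modules) {x : X} (hx : x ∉ Z) :
    F.presheaf.stalk x ≃ₗ[X.presheaf.stalk x] ((H0 Z).obj F).presheaf.stalk x :=
  LinearEquiv.ofBijective (Groth.L19.Ass.stalkMapₗ (rhoApp Z F) x) (bijective_rho_stalk F hx)

theorem mem_ass_H0 (F : X.Modules) {x : X} (hx : x ∉ Z) (h : x ∈ AssSch.Ass F) :
    x ∈ AssSch.Ass ((H0 Z).obj F) := by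
  rw [Groth.L19.Ass.mem_iff] at h ⊢
  rw [← LinearEquiv.AssociatedPrimes.eq (stalkEquivOff F hx)]
  exact h

theorem primeIdealOf_le {V : X.Opens} (hV : IsAffineOpen V) {a b : X} (ha : a ∈ V) (hb : b ∈ V)
    (h : a ⤳ b) : (hV.primeIdealOf ⟨a, ha⟩).asIdeal ≤ (hV.primeIdealOf ⟨b, hb⟩).asIdeal := by
  refine (PrimeSpectrum.le_iff_specializes (hV.primeIdealOf ⟨a, ha⟩) (hV.primeIdealOf ⟨b, hb⟩)).2 ?_
  rw [← hV.fromSpec.isOpenEmbedding.isInducing.specializes_iff]
  show hV.fromSpec _ ⤳ hV.fromSpec _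
  rwa [hV.fromSpec_primeIdealOf, hV.fromSpec_primeIdealOf]

theorem stableUnderSpecialization_dimGe (X : Scheme.{u}) (n : ℕ) :
    StableUnderSpecialization (dimGe X n) := by
  intro a b hab ha
  obtain ⟨V, hV, hbV, -⟩ := exists_isAffineOpen_mem_and_subset (x := b) (U := (⊤ : X.Opens)) trivial
  have haV : a ∈ V := hab.mem_open V.2 hbV
  letI := X.presheaf.algebra_section_stalk ⟨a, haV⟩
  letI := X.presheaf.algebra_section_stalk ⟨b, hbV⟩
  haveI := hV.isLocalization_stalk ⟨a, haV⟩
  haveI := hV.isLocalization_stalk ⟨b, hbV⟩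
  show (n : WithBot ℕ∞) ≤ ringKrullDim (X.presheaf.stalk b)
  refine le_trans ha ?_
  rw [IsLocalization.AtPrime.ringKrullDim_eq_height (hV.primeIdealOf ⟨a, haV⟩).asIdeal (X.presheaf.stalk a),
    IsLocalization.AtPrime.ringKrullDim_eq_height (hV.primeIdealOf ⟨b, hbV⟩).asIdeal (X.presheaf.stalk b)]
  exact WithBot.coe_le_coe.mpr (Ideal.height_mono (primeIdealOf_le hV haV hbV hab))

/-- An associated point gives an associated prime of the stalk at each specialization. -/
theorem mem_associatedPrimes_stalk [IsLocallyNoetherian X] (M : X.Modules) [Coh.IsQCoh M] {x y : X}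
    (h : x ⤳ y) (hx : x ∈ AssSch.Ass M) :
    (maximalIdeal (X.presheaf.stalk x)).comap (X.presheaf.stalkSpecializes h).hom ∈
      associatedPrimes (X.presheaf.stalk y) (M.presheaf.stalk y) := by
  obtain ⟨V, hV, hyV, -⟩ := exists_isAffineOpen_mem_and_subset (x := y) (U := (⊤ : X.Opens)) trivial
  have hxV : x ∈ V := h.mem_open V.2 hyV
  haveI : IsNoetherianRing Γ(X, V) := IsLocallyNoetherian.component_noetherian ⟨V, hV⟩
  have hp := (Groth.L19.Ass.mem_iff_of_affine M hV hxV).mp hx
  letI := Groth.L20.ModStalk.stalkModule M hyV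
  letI := X.presheaf.algebra_section_stalk ⟨y, hyV⟩
  haveI := hV.isLocalization_stalk ⟨y, hyV⟩
  haveI := Groth.L20.ModStalk.isLocalizedModule_germ M hV hyV
  haveI : IsScalarTower Γ(X, V) (X.presheaf.stalk y) (M.presheaf.stalk y) :=
    IsScalarTower.of_algebraMap_smul fun _ _ => rfl
  apply Module.associatedPrimes.mem_associatedPrimes_of_comap_mem_associatedPrimes_of_isLocalizedModule
    (hV.primeIdealOf ⟨y, hyV⟩).asIdeal.primeCompl (Groth.L20.ModStalk.germₗ M hyV)
  have he : ((maximalIdeal (X.presheaf.stalk x)).comap (X.presheaf.stalkSpecializes h).hom).comap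
      (algebraMap Γ(X, V) (X.presheaf.stalk y)) = (hV.primeIdealOf ⟨x, hxV⟩).asIdeal := by
    letI := X.presheaf.algebra_section_stalk ⟨x, hxV⟩
    haveI := hV.isLocalization_stalk ⟨x, hxV⟩
    refine Eq.trans ?_ (IsLocalization.AtPrime.under_maximalIdeal (X.presheaf.stalk x)
      (hV.primeIdealOf ⟨x, hxV⟩).asIdeal)
    rw [Ideal.comap_comap]
    show _ = (maximalIdeal (X.presheaf.stalk x)).comap (algebraMap Γ(X, V) (X.presheaf.stalk x))
    congr 1
    show (X.presheaf.germ V y hyV ≫ X.presheaf.stalkSpecializes h).hom = _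
    rw [X.presheaf.germ_stalkSpecializes]
    rfl
  rw [he]
  exact hp

end Groth.L19.ZClos
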