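import Groth.Prelude.Def_EGA4b
import Mathlib.RingTheory.Ideal.AssociatedPrime.Localization
import Mathlib.RingTheory.Ideal.AssociatedPrime.Finiteness
import Mathlib.RingTheory.Localization.Integer
import Mathlib.RingTheory.Finiteness.Finsupp
import Mathlib.Algebra.Module.LocalizedModule.Exact
import Mathlib.RingTheory.Localization.Module
import Mathlib.LinearAlgebra.FreeModule.Finite.Basic

/-!
# Compatible families of stalks outside a set of primes, and their finiteness
-/

set_option autoImplicit false
set_option linter.style.haveILetI false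

universe u

noncomputable section

namespace Groth.L19.ZFam

variable {A : Type u} [CommRing A]

/-- The map between localizations at comparable primes. -/
def res (M : Type u) [AddCommGroup M] [Module A M] {y z : PrimeSpectrum A} (h : z ≤ y) :
    LocalizedModule y.asIdeal.primeCompl M →ₗ[A] LocalizedModule z.asIdeal.primeCompl M :=
  IsLocalizedModule.lift y.asIdeal.primeCompl (LocalizedModule.mkLinearMap y.asIdeal.primeCompl M)
    (LocalizedModule.mkLinearMap z.asIdeal.primeCompl M) fun s =>
      IsLocalizedModule.map_units (LocalizedModule.mkLinearMap z.asIdeal.primeCompl M)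
        (⟨s.1, fun hs => s.2 (h hs)⟩ : z.asIdeal.primeCompl)

variable (M : Type u) [AddCommGroup M] [Module A M]

theorem res_mk {y z : PrimeSpectrum A} (h : z ≤ y) (m : M) :
    res M h (LocalizedModule.mkLinearMap y.asIdeal.primeCompl M m) =
      LocalizedModule.mkLinearMap z.asIdeal.primeCompl M m :=
  IsLocalizedModule.lift_apply _ _ _ _ _

/-- An element of a localization is characterised by its multiples. -/
theorem res_eq_of_smul {y z : PrimeSpectrum A} (h : z ≤ y) (a : LocalizedModule y.asIdeal.primeCompl M)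
    (b : LocalizedModule z.asIdeal.primeCompl M) (s : A) (hs : s ∉ z.asIdeal) (m : M)
    (ha : s • a = LocalizedModule.mkLinearMap y.asIdeal.primeCompl M m)
    (hb : s • b = LocalizedModule.mkLinearMap z.asIdeal.primeCompl M m) : res M h a = b := by
  have h1 : s • res M h a = s • b := by rw [← map_smul, ha, res_mk, hb]
  exact IsLocalizedModule.smul_injective (LocalizedModule.mkLinearMap z.asIdeal.primeCompl M)
    (⟨s, hs⟩ : z.asIdeal.primeCompl) h1

/-- Families of stalks outside `Z` compatible with localization. -/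
def Fam (Z : Set (PrimeSpectrum A)) :
    Submodule A (∀ y : {y : PrimeSpectrum A // y ∉ Z}, LocalizedModule y.1.asIdeal.primeCompl M) where
  carrier := {f | ∀ (y z : {y : PrimeSpectrum A // y ∉ Z}) (h : z.1 ≤ y.1), res M h (f y) = f z}
  add_mem' hf hg y z h := by simp [hf y z h, hg y z h]
  zero_mem' _ _ _ := map_zero _
  smul_mem' a f hf y z h := by simp [hf y z h]

variable {M} {N : Type u} [AddCommGroup N] [Module A N]

/-- A linear map at a prime. -/
def lmap (φ : M →ₗ[A] N) (y : PrimeSpectrum A) :
    LocalizedModule y.asIdeal.primeCompl M →ₗ[A] LocalizedModule y.asIdeal.primeCompl N :=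
  IsLocalizedModule.map y.asIdeal.primeCompl (LocalizedModule.mkLinearMap y.asIdeal.primeCompl M)
    (LocalizedModule.mkLinearMap y.asIdeal.primeCompl N) φ

theorem res_lmap (φ : M →ₗ[A] N) {y z : PrimeSpectrum A} (h : z ≤ y)
    (a : LocalizedModule y.asIdeal.primeCompl M) : res N h (lmap φ y a) = lmap φ z (res M h a) := by
  obtain ⟨⟨m, s⟩, hm⟩ := IsLocalizedModule.surj y.asIdeal.primeCompl
    (LocalizedModule.mkLinearMap y.asIdeal.primeCompl M) a
  have hsz : (s : A) ∉ z.asIdeal := fun hh => s.2 (h hh)
  refine res_eq_of_smul N h _ _ s hsz (φ m) ?_ ?_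
  · rw [← map_smul]
    show lmap φ y (s • a) = _
    rw [hm]
    exact IsLocalizedModule.map_apply _ _ _ _ _
  · rw [← map_smul, ← map_smul]
    show lmap φ z (res M h (s • a)) = _
    rw [hm, res_mk]
    exact IsLocalizedModule.map_apply _ _ _ _ _

/-- Families are functorial. -/
def famMap (φ : M →ₗ[A] N) (Z : Set (PrimeSpectrum A)) : Fam M Z →ₗ[A] Fam N Z where
  toFun f := ⟨fun y => lmap φ y.1 (f.1 y), fun y z h => by
    show res N h (lmap φ y.1 (f.1 y)) = lmap φ z.1 (f.1 z)
    rw [res_lmap, f.2 y z h]⟩
  map_add' f g := Subtype.ext (funext fun y => (lmap φ y.1).map_add (f.1 y) (g.1 y))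
  map_smul' a f := Subtype.ext (funext fun y => (lmap φ y.1).map_smul a (f.1 y))

theorem famMap_apply (φ : M →ₗ[A] N) (Z : Set (PrimeSpectrum A)) (f : Fam M Z)
    (y : {y : PrimeSpectrum A // y ∉ Z}) : (famMap φ Z f).1 y = lmap φ y.1 (f.1 y) := rfl

variable {Z : Set (PrimeSpectrum A)}

theorem famMap_injective (φ : M →ₗ[A] N) (hφ : Function.Injective φ) : Function.Injective (famMap φ Z) := by
  intro f g hfg
  refine Subtype.ext (funext fun y => ?_)
  have h := congrFun (congrArg Subtype.val hfg) y
  rw [famMap_apply, famMap_apply] at h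
  exact IsLocalizedModule.map_injective y.1.asIdeal.primeCompl (LocalizedModule.mkLinearMap _ M)
    (LocalizedModule.mkLinearMap _ N) φ hφ h

variable [IsNoetherianRing A]

/-- Finiteness of families passes to extensions. -/
theorem finite_of_exact {P : Type u} [AddCommGroup P] [Module A P] (φ : M →ₗ[A] N) (ψ : N →ₗ[A] P)
    (hφ : Function.Injective φ) (he : Function.Exact φ ψ)
    (hM : Module.Finite A (Fam M Z)) (hP : Module.Finite A (Fam P Z)) : Module.Finite A (Fam N Z) := by
  haveI : IsNoetherian A (Fam M Z) := isNoetherian_of_isNoetherianRing_of_finite _ _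
  haveI : IsNoetherian A (Fam P Z) := isNoetherian_of_isNoetherianRing_of_finite _ _
  have hex : Function.Exact (famMap φ Z) (famMap ψ Z) := by
    intro g
    constructor
    · intro hg
      have hloc : ∀ y : {y : PrimeSpectrum A // y ∉ Z}, ∃ a, lmap φ y.1 a = g.1 y := fun y =>
        ((IsLocalizedModule.map_exact y.1.asIdeal.primeCompl
          (LocalizedModule.mkLinearMap y.1.asIdeal.primeCompl M)
          (LocalizedModule.mkLinearMap y.1.asIdeal.primeCompl N)
          (LocalizedModule.mkLinearMap y.1.asIdeal.primeCompl P) φ ψ he) (g.1 y)).1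
            ((famMap_apply ψ Z g y).symm.trans (congrFun (congrArg Subtype.val hg) y))
      choose a ha using hloc
      refine ⟨⟨a, fun y z h => ?_⟩, Subtype.ext (funext fun y => (famMap_apply φ Z _ y).trans (ha y))⟩
      refine IsLocalizedModule.map_injective z.1.asIdeal.primeCompl (LocalizedModule.mkLinearMap z.1.asIdeal.primeCompl M)
        (LocalizedModule.mkLinearMap z.1.asIdeal.primeCompl N) φ hφ ?_
      show lmap φ z.1 (res M h (a y)) = lmap φ z.1 (a z)
      rw [← res_lmap, ha, ha, g.2 y z h]
    · rintro ⟨f, rfl⟩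
      refine Subtype.ext (funext fun y => ?_)
      rw [famMap_apply, famMap_apply]
      exact ((IsLocalizedModule.map_exact y.1.asIdeal.primeCompl
          (LocalizedModule.mkLinearMap y.1.asIdeal.primeCompl M)
          (LocalizedModule.mkLinearMap y.1.asIdeal.primeCompl N)
          (LocalizedModule.mkLinearMap y.1.asIdeal.primeCompl P) φ ψ he) _).2 ⟨f.1 y, rfl⟩
  haveI : IsNoetherian A (Fam N Z) := isNoetherian_of_range_eq_ker (famMap φ Z) (famMap ψ Z)
    (LinearMap.exact_iff.1 hex).symm
  infer_instance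

/-- Finiteness of families passes to submodules. -/
theorem finite_of_injective (φ : M →ₗ[A] N) (hφ : Function.Injective φ) (hN : Module.Finite A (Fam N Z)) :
    Module.Finite A (Fam M Z) := by
  haveI : IsNoetherian A (Fam N Z) := isNoetherian_of_isNoetherianRing_of_finite _ _
  exact Module.Finite.of_injective (famMap φ Z) (famMap_injective φ hφ)

theorem finite_of_subsingleton [Subsingleton M] : Module.Finite A (Fam M Z) := by
  haveI : ∀ y : {y : PrimeSpectrum A // y ∉ Z}, Subsingleton (LocalizedModule y.1.asIdeal.primeCompl M) :=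
    fun y => IsLocalizedModule.subsingleton_of_subsingleton y.1.asIdeal.primeCompl
      (LocalizedModule.mkLinearMap y.1.asIdeal.primeCompl M)
  infer_instance

theorem finite_fin_pow (h : Module.Finite A (Fam M Z)) :
    ∀ r : ℕ, Module.Finite A (Fam (Fin r → M) Z)
  | 0 => finite_of_subsingleton
  | r + 1 => by
    refine finite_of_exact (P := Fin r → M) (LinearMap.single A (fun _ : Fin (r + 1) => M) 0)
      (LinearMap.funLeft A M Fin.succ) (Pi.single_injective (M := fun _ : Fin (r + 1) => M) 0) ?_ h (finite_fin_pow h r)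
    intro g
    constructor
    · intro hg
      refine ⟨g 0, funext fun i => ?_⟩
      rcases Fin.eq_zero_or_eq_succ i with rfl | ⟨j, rfl⟩
      · simp
      · simp only [LinearMap.coe_single, Pi.single_eq_of_ne (Fin.succ_ne_zero j)]
        exact (congrFun hg j).symm
    · rintro ⟨m, rfl⟩
      funext j
      simp [LinearMap.funLeft_apply]

variable {p : Ideal A} [hp : p.IsPrime]

omit [IsNoetherianRing A] in
/-- Families of a domain quotient lie in the hull. -/
theorem finite_quotient [IsNoetherianRing A] (hpZ : (⟨p, hp⟩ : PrimeSpectrum A) ∉ Z)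
    (hc : ∀ y ∈ Z, p ≤ y.asIdeal → (2 : ℕ∞) ≤ (y.asIdeal.map (Ideal.Quotient.mk p)).height)
    (hh : EGA4.HeightOneHullFinite (A ⧸ p)) : Module.Finite A (Fam (A ⧸ p) Z) := by
  classical
  obtain ⟨H, hH, hHfin⟩ := hh
  let K := FractionRing (A ⧸ p)
  let η : {y : PrimeSpectrum A // y ∉ Z} := ⟨⟨p, hp⟩, hpZ⟩
  let ι : (A ⧸ p) →ₗ[A] K := (IsScalarTower.toAlgHom A (A ⧸ p) K).toLinearMap
  have hι : Function.Injective ι := IsFractionRing.injective (A ⧸ p) K
  have hu : ∀ s : p.primeCompl, IsUnit (algebraMap A (Module.End A K) s) := fun s => by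
    have hne : algebraMap A K (s : A) ≠ 0 := by
      rw [IsScalarTower.algebraMap_apply A (A ⧸ p) K, Ne, map_eq_zero_iff _ (IsFractionRing.injective (A ⧸ p) K)]
      exact fun h => s.2 (Ideal.Quotient.eq_zero_iff_mem.mp h)
    rw [Module.End.isUnit_iff]
    constructor
    · intro a b hab
      have : (s : A) • a = (s : A) • b := hab
      rw [Algebra.smul_def, Algebra.smul_def] at this
      exact mul_left_cancel₀ hne this
    · intro a
      refine ⟨(algebraMap A K (s : A))⁻¹ * a, ?_⟩
      show (s : A) • ((algebraMap A K (s : A))⁻¹ * a) = a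
      rw [Algebra.smul_def, ← mul_assoc, mul_inv_cancel₀ hne, one_mul]
  let ψ : LocalizedModule p.primeCompl (A ⧸ p) →ₗ[A] K :=
    IsLocalizedModule.lift p.primeCompl (LocalizedModule.mkLinearMap p.primeCompl (A ⧸ p)) ι hu
  have hψmk : ∀ b, ψ (LocalizedModule.mkLinearMap p.primeCompl (A ⧸ p) b) = ι b :=
    fun b => IsLocalizedModule.lift_apply _ _ _ _ _
  have hψ : Function.Injective ψ := by
    refine (injective_iff_map_eq_zero ψ).2 fun a ha => ?_
    obtain ⟨⟨b, s⟩, hb⟩ := IsLocalizedModule.surj p.primeCompl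
      (LocalizedModule.mkLinearMap p.primeCompl (A ⧸ p)) a
    have hb' : (s : A) • a = LocalizedModule.mkLinearMap p.primeCompl (A ⧸ p) b := hb
    have : ι b = 0 := by rw [← hψmk, ← hb', map_smul, ha, smul_zero]
    rw [hι (this.trans (map_zero ι).symm), map_zero] at hb'
    exact IsLocalizedModule.smul_injective (LocalizedModule.mkLinearMap p.primeCompl (A ⧸ p)) s
      (hb'.trans (smul_zero _).symm)
  let e : Fam (A ⧸ p) Z →ₗ[A] K :=
    ψ.comp ((LinearMap.proj η).comp (Fam (A ⧸ p) Z).subtype)
  have he : Function.Injective e := by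
    refine (injective_iff_map_eq_zero e).2 fun f hf => ?_
    have hη : f.1 η = 0 := hψ (hf.trans (map_zero ψ).symm)
    refine Subtype.ext (funext fun y => ?_)
    show f.1 y = 0
    obtain ⟨⟨b, s⟩, hb⟩ := IsLocalizedModule.surj y.1.asIdeal.primeCompl
      (LocalizedModule.mkLinearMap y.1.asIdeal.primeCompl (A ⧸ p)) (f.1 y)
    have hb' : (s : A) • f.1 y = LocalizedModule.mkLinearMap y.1.asIdeal.primeCompl (A ⧸ p) b := hb
    refine IsLocalizedModule.smul_injective (LocalizedModule.mkLinearMap y.1.asIdeal.primeCompl (A ⧸ p)) s ?_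
    show (s : A) • f.1 y = (s : A) • (0 : LocalizedModule y.1.asIdeal.primeCompl (A ⧸ p))
    rw [hb', smul_zero]
    by_cases hle : p ≤ y.1.asIdeal
    · have h1 := congrArg (res (A ⧸ p) (y := y.1) (z := η.1) hle) hb'
      rw [map_smul, f.2 y η hle, hη, smul_zero, res_mk] at h1
      have h2 := congrArg ψ h1
      rw [map_zero, hψmk] at h2
      rw [hι (h2.symm.trans (map_zero ι).symm), map_zero]
    · obtain ⟨c, hcp, hcy⟩ := Set.not_subset.mp hle
      refine (IsLocalizedModule.eq_zero_iff y.1.asIdeal.primeCompl _).2 ⟨⟨c, hcy⟩, ?_⟩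
      show c • b = 0
      obtain ⟨b, rfl⟩ := Ideal.Quotient.mk_surjective b
      exact Ideal.Quotient.eq_zero_iff_mem.mpr (p.mul_mem_right b hcp)
  have hrange : ∀ f, e f ∈ H := by
    intro f
    show e f ∈ (H : Set K)
    rw [hH]
    intro P hP hP1
    let y₀ : PrimeSpectrum A := ⟨P.comap (Ideal.Quotient.mk p), inferInstance⟩
    have hpy : p ≤ y₀.asIdeal := fun a ha => by
      show Ideal.Quotient.mk p a ∈ P
      rw [Ideal.Quotient.eq_zero_iff_mem.mpr ha]; exact P.zero_mem
    have hy : y₀ ∉ Z := fun hy => by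
      have := hc y₀ hy hpy
      rw [Ideal.map_comap_of_surjective _ Ideal.Quotient.mk_surjective, hP1] at this
      exact absurd this (by norm_num)
    obtain ⟨⟨b, s⟩, hb⟩ := IsLocalizedModule.surj y₀.asIdeal.primeCompl
      (LocalizedModule.mkLinearMap y₀.asIdeal.primeCompl (A ⧸ p)) (f.1 ⟨y₀, hy⟩)
    have hb' : (s : A) • f.1 ⟨y₀, hy⟩ = LocalizedModule.mkLinearMap y₀.asIdeal.primeCompl (A ⧸ p) b := hb
    refine ⟨Ideal.Quotient.mk p (s : A), s.2, b, ?_⟩
    have h1 := congrArg (res (A ⧸ p) (y := y₀) (z := η.1) hpy) hb'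
    rw [map_smul, f.2 ⟨y₀, hy⟩ η hpy, res_mk] at h1
    have h2 : (s : A) • e f = ι b := (map_smul ψ _ _).symm.trans ((congrArg ψ h1).trans (hψmk b))
    rw [Algebra.smul_def, IsScalarTower.algebraMap_apply A (A ⧸ p) K] at h2
    exact h2.symm
  haveI : Module.Finite A H := Module.Finite.trans (A ⧸ p) H
  haveI : IsNoetherian A H := isNoetherian_of_isNoetherianRing_of_finite _ _
  let e' : Fam (A ⧸ p) Z →ₗ[A] H :=
    { toFun := fun f => ⟨e f, hrange f⟩
      map_add' := fun f g => Subtype.ext (map_add e f g)
      map_smul' := fun a f => Subtype.ext (map_smul e a f) }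
  exact Module.Finite.of_injective e' fun f g h => he (congrArg Subtype.val h)

omit [IsNoetherianRing A] in
/-- A finite module killed by `p` and torsion free over `A ⧸ p` embeds in a free one. -/
theorem exists_embedding (T : Type u) [AddCommGroup T] [Module A T] [Module.Finite A T]
    (hk : ∀ a ∈ p, ∀ t : T, a • t = 0) (htf : ∀ a : A, a ∉ p → ∀ t : T, a • t = 0 → t = 0) :
    ∃ (r : ℕ) (φ : T →ₗ[A] (Fin r → A ⧸ p)), Function.Injective φ := by
  classical
  letI : Module (A ⧸ p) T := Module.IsTorsionBySet.module (I := p) fun t a => hk a.1 a.2 t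
  haveI : IsScalarTower A (A ⧸ p) T := IsScalarTower.of_algebraMap_smul fun a t => rfl
  haveI : Module.Finite (A ⧸ p) T := Module.Finite.of_restrictScalars_finite A (A ⧸ p) T
  let S := nonZeroDivisors (A ⧸ p)
  let K := FractionRing (A ⧸ p)
  let loc : T →ₗ[A ⧸ p] LocalizedModule S T := LocalizedModule.mkLinearMap S T
  have hloc : Function.Injective loc := by
    refine (injective_iff_map_eq_zero loc).2 fun t ht => ?_
    obtain ⟨s, hs⟩ := (IsLocalizedModule.eq_zero_iff S loc).1 ht
    obtain ⟨a, ha⟩ := Ideal.Quotient.mk_surjective (s : A ⧸ p)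
    refine htf a (fun hap => nonZeroDivisors.ne_zero s.2 ?_) t ?_
    · rw [← ha]; exact Ideal.Quotient.eq_zero_iff_mem.mpr hap
    · have hs' : (s : A ⧸ p) • t = 0 := hs
      rw [← ha] at hs'
      exact hs'
  let b := Module.finBasis K (LocalizedModule S T)
  obtain ⟨n, π, hπ⟩ := Module.Finite.exists_fin' (A ⧸ p) T
  obtain ⟨d, hd⟩ := IsLocalization.exist_integer_multiples_of_finite S
    (fun x : Fin (Module.finrank K (LocalizedModule S T)) × Fin n =>
      b.repr (loc (π (Pi.single x.2 1))) x.1)
  let R₀ := LinearMap.range (Algebra.linearMap (A ⧸ p) K)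
  let C : T →ₗ[A ⧸ p] (Fin (Module.finrank K (LocalizedModule S T)) → K) :=
    (d : A ⧸ p) • (((Finsupp.linearEquivFunOnFinite K K _).toLinearMap.comp b.repr.toLinearMap).restrictScalars
      (A ⧸ p)).comp loc
  have hC : ∀ t i, C t i ∈ R₀ := by
    intro t i
    obtain ⟨v, rfl⟩ := hπ t
    rw [pi_eq_sum_univ' v, map_sum, map_sum, Finset.sum_apply]
    refine Submodule.sum_mem _ fun k _ => ?_
    rw [map_smul, map_smul, Pi.smul_apply]
    exact Submodule.smul_mem _ _ (hd (i, k))
  have hCinj : Function.Injective C := by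
    intro t t' h
    refine hloc (b.repr.injective (Finsupp.ext fun i => ?_))
    have hi := congrFun h i
    have hd0 : algebraMap (A ⧸ p) K (d : A ⧸ p) ≠ 0 :=
      IsFractionRing.to_map_ne_zero_of_mem_nonZeroDivisors d.2
    simp only [C, LinearMap.smul_apply, Pi.smul_apply, LinearMap.comp_apply, LinearMap.coe_restrictScalars,
      Algebra.smul_def] at hi
    exact mul_left_cancel₀ hd0 hi
  let inv : R₀ ≃ₗ[A ⧸ p] (A ⧸ p) :=
    (LinearEquiv.ofInjective (Algebra.linearMap (A ⧸ p) K) (IsFractionRing.injective (A ⧸ p) K)).symm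
  let Φ : T →ₗ[A ⧸ p] (Fin (Module.finrank K (LocalizedModule S T)) → A ⧸ p) :=
    LinearMap.pi fun i => inv.toLinearMap.comp (((LinearMap.proj i).comp C).codRestrict R₀ fun t => hC t i)
  refine ⟨_, Φ.restrictScalars A, fun t t' h => hCinj (funext fun i => ?_)⟩
  exact congrArg Subtype.val (inv.injective (congrFun h i))

variable (M) in
/-- The submodule killed by `p`. -/
def killed (p : Ideal A) : Submodule A M := ⨅ a : p, LinearMap.ker (LinearMap.lsmul A M a.1)

omit [IsNoetherianRing A] hp in
theorem mem_killed {m : M} : m ∈ killed M p ↔ ∀ a ∈ p, a • m = 0 := by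
  simp [killed, Submodule.mem_iInf]

/-- Families of a coprimary module. -/
theorem finite_coprimary (h0 : Module.Finite A (Fam (A ⧸ p) Z)) (k : ℕ) :
    ∀ (T : Type u) [AddCommGroup T] [Module A T] [Module.Finite A T],
      (∀ a ∈ p ^ k, ∀ t : T, a • t = 0) → (∀ a : A, a ∉ p → ∀ t : T, a • t = 0 → t = 0) →
      Module.Finite A (Fam T Z) := by
  induction k with
  | zero =>
    intro T _ _ _ hk htf
    haveI : Subsingleton T := subsingleton_of_forall_eq 0 fun t => by
      simpa using hk 1 (by simp) t
    exact finite_of_subsingleton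
  | succ k ih =>
    intro T _ _ _ hk htf
    let T₁ := killed T p
    haveI : IsNoetherian A T := isNoetherian_of_isNoetherianRing_of_finite _ _
    haveI : Module.Finite A T₁ := Module.Finite.of_injective T₁.subtype T₁.injective_subtype
    have h1 : Module.Finite A (Fam T₁ Z) := by
      obtain ⟨r, φ, hφ⟩ := exists_embedding (p := p) T₁
        (fun a ha t => Subtype.ext (mem_killed.1 t.2 a ha))
        (fun a ha t ht => Subtype.ext (htf a ha t.1 (congrArg Subtype.val ht)))
      exact finite_of_injective φ hφ (finite_fin_pow h0 r)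
    refine finite_of_exact T₁.subtype T₁.mkQ T₁.injective_subtype (LinearMap.exact_subtype_mkQ T₁) h1
      (ih (T ⧸ T₁) (fun a ha t => ?_) (fun a ha t ht => ?_))
    · obtain ⟨t, rfl⟩ := Submodule.Quotient.mk_surjective _ t
      rw [← Submodule.Quotient.mk_smul, Submodule.Quotient.mk_eq_zero, mem_killed]
      intro b hb
      rw [smul_smul]
      exact hk _ (by rw [pow_succ']; exact Ideal.mul_mem_mul hb ha) t
    · obtain ⟨t, rfl⟩ := Submodule.Quotient.mk_surjective _ t
      rw [← Submodule.Quotient.mk_smul, Submodule.Quotient.mk_eq_zero, mem_killed] at ht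
      rw [Submodule.Quotient.mk_eq_zero, mem_killed]
      intro b hb
      refine htf a ha _ ?_
      rw [smul_comm]
      exact ht b hb

omit hp in
/-- Families of a module are finite when those of its associated quotients are. -/
theorem finite_of_ass (k : ℕ) :
    ∀ (T : Type u) [AddCommGroup T] [Module A T] [Module.Finite A T],
      (associatedPrimes A T).ncard ≤ k →
      (∀ q ∈ associatedPrimes A T, Module.Finite A (Fam (A ⧸ q) Z)) → Module.Finite A (Fam T Z) := by
  induction k with
  | zero =>
    intro T _ _ _ hk _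
    rcases subsingleton_or_nontrivial T with h | h
    · exact finite_of_subsingleton
    · exact absurd ((Set.ncard_eq_zero (associatedPrimes.finite A T)).1 (Nat.le_zero.1 hk))
        (associatedPrimes.nonempty A T).ne_empty
  | succ k ih =>
    intro T _ _ _ hk hass
    rcases subsingleton_or_nontrivial T with h | h
    · exact finite_of_subsingleton
    classical
    haveI : IsNoetherian A T := isNoetherian_of_isNoetherianRing_of_finite _ _
    obtain ⟨q, hq, hqmin⟩ := (associatedPrimes.finite A T).exists_minimal (associatedPrimes.nonempty A T)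
    haveI hqp : q.IsPrime := hq.isPrime
    let loc := LocalizedModule.mkLinearMap q.primeCompl T
    let T' := LinearMap.ker loc
    have htf : ∀ a : A, a ∉ q → ∀ t : T ⧸ T', a • t = 0 → t = 0 := by
      intro a ha t ht
      obtain ⟨t, rfl⟩ := Submodule.Quotient.mk_surjective _ t
      rw [← Submodule.Quotient.mk_smul, Submodule.Quotient.mk_eq_zero, LinearMap.mem_ker] at ht
      rw [Submodule.Quotient.mk_eq_zero, LinearMap.mem_ker]
      refine IsLocalizedModule.smul_injective loc (⟨a, ha⟩ : q.primeCompl) ?_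
      show a • loc t = a • (0 : LocalizedModule q.primeCompl T)
      rw [← map_smul, ht, smul_zero]
    -- the radical of the annihilator of the quotient contains `q`
    have hrad : q ≤ (Module.annihilator A (T ⧸ T')).radical := by
      intro a ha
      rw [Ideal.radical_eq_sInf, Ideal.mem_sInf]
      rintro P ⟨hle, hP⟩
      haveI := hP
      obtain ⟨P', hP', hP'P⟩ := Ideal.exists_minimalPrimes_le hle
      have hmem := Module.associatedPrimes.minimalPrimes_annihilator_subset_associatedPrimes A (T ⧸ T') hP'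
      obtain ⟨-, e, he⟩ := isAssociatedPrime_iff.1 hmem
      haveI := hmem.isPrime
      have hP'q : P' ≤ q := by
        intro c hc
        by_contra hcq
        have hce : c • e = 0 := by
          rw [he, Submodule.mem_colon_singleton, Submodule.mem_bot] at hc; exact hc
        refine hmem.isPrime.ne_top (Ideal.eq_top_iff_one _ |>.2 ?_)
        rw [he, Submodule.mem_colon_singleton, Submodule.mem_bot, htf c hcq e hce, smul_zero]
      have hann : Module.annihilator A T ≤ P' :=
        ((Submodule.mkQ T').annihilator_le_of_surjective (Submodule.mkQ_surjective T')).trans hP'.1.2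
      obtain ⟨P'', hP'', hP''P'⟩ := Ideal.exists_minimalPrimes_le hann
      have hA := Module.associatedPrimes.minimalPrimes_annihilator_subset_associatedPrimes A T hP''
      exact hP'P (hP''P' (hqmin hA (hP''P'.trans hP'q) ha))
    obtain ⟨N, hN⟩ := (Module.annihilator A (T ⧸ T')).exists_radical_pow_le_of_fg
      ((isNoetherianRing_iff_ideal_fg A).1 inferInstance _)
    have hTT : Module.Finite A (Fam (T ⧸ T') Z) :=
      finite_coprimary (hass q hq) N (T ⧸ T')
        (fun a ha t => Module.mem_annihilator.1 (hN (Ideal.pow_right_mono hrad N ha)) t) htf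
    haveI : Module.Finite A T' := Module.Finite.of_injective T'.subtype T'.injective_subtype
    have hsub : associatedPrimes A T' ⊆ associatedPrimes A T \ {q} := by
      refine fun P hP => ⟨associatedPrimes.subset_of_injective T'.injective_subtype hP, ?_⟩
      rintro rfl
      obtain ⟨-, t, ht⟩ := isAssociatedPrime_iff.1 hP
      obtain ⟨c, hc⟩ := (IsLocalizedModule.eq_zero_iff P.primeCompl loc).1 t.2
      refine c.2 (ht.symm.le ?_)
      rw [Submodule.mem_colon_singleton, Submodule.mem_bot]
      exact Subtype.ext hc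
    have hT' : Module.Finite A (Fam T' Z) := by
      refine ih T' ?_ (fun P hP => hass P (hsub hP).1)
      refine Nat.le_of_lt_succ (lt_of_lt_of_le ?_ hk)
      exact Set.ncard_lt_ncard (lt_of_le_of_lt (Set.subset_def ▸ hsub : associatedPrimes A T' ≤ _)
        (Set.diff_singleton_ssubset.2 hq)) (associatedPrimes.finite A T)
    exact finite_of_exact T'.subtype T'.mkQ T'.injective_subtype (LinearMap.exact_subtype_mkQ T') hT' hTT

/-- The main finiteness statement. -/
theorem finite_fam (T : Type u) [AddCommGroup T] [Module A T] [Module.Finite A T]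
    (h : ∀ x : PrimeSpectrum A, x.asIdeal ∈ associatedPrimes A T → x ∉ Z →
      (∀ y ∈ Z, x.asIdeal ≤ y.asIdeal → (2 : ℕ∞) ≤ (y.asIdeal.map (Ideal.Quotient.mk x.asIdeal)).height) ∧
        EGA4.HeightOneHullFinite (A ⧸ x.asIdeal))
    (hZ : ∀ y z : PrimeSpectrum A, y ≤ z → y ∈ Z → z ∈ Z) : Module.Finite A (Fam T Z) := by
  refine finite_of_ass _ T le_rfl fun q hq => ?_
  haveI := hq.isPrime
  by_cases hqZ : (⟨q, hq.isPrime⟩ : PrimeSpectrum A) ∈ Z
  · haveI : ∀ y : {y : PrimeSpectrum A // y ∉ Z}, Subsingleton (LocalizedModule y.1.asIdeal.primeCompl (A ⧸ q)) := by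
      intro y
      obtain ⟨c, hcq, hcy⟩ := Set.not_subset.mp (fun hle => y.2 (hZ ⟨q, hq.isPrime⟩ y.1 hle hqZ))
      refine subsingleton_of_forall_eq 0 fun a => ?_
      obtain ⟨⟨b, s⟩, hb⟩ := IsLocalizedModule.surj y.1.asIdeal.primeCompl
        (LocalizedModule.mkLinearMap y.1.asIdeal.primeCompl (A ⧸ q)) a
      refine IsLocalizedModule.smul_injective (LocalizedModule.mkLinearMap y.1.asIdeal.primeCompl (A ⧸ q)) s ?_
      show (s : A) • a = (s : A) • (0 : LocalizedModule y.1.asIdeal.primeCompl (A ⧸ q))
      rw [smul_zero, show (s : A) • a = _ from hb]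
      refine (IsLocalizedModule.eq_zero_iff y.1.asIdeal.primeCompl _).2 ⟨⟨c, hcy⟩, ?_⟩
      show c • b = 0
      obtain ⟨b, rfl⟩ := Ideal.Quotient.mk_surjective b
      exact Ideal.Quotient.eq_zero_iff_mem.mpr (q.mul_mem_right b hcq)
    infer_instance
  · obtain ⟨hc, hh⟩ := h ⟨q, hq.isPrime⟩ hq hqZ
    exact finite_quotient hqZ hc hh

end Groth.L19.ZFam
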