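import Groth.Agent.L19.ZClos.Closed
import Groth.Agent.L19.ZClos.Family
import Groth.Agent.L16.CohClosedPush
import Groth.Agent.S5841

/-!
# Finiteness of the sections of the closure on affine opens
-/

set_option autoImplicit false
set_option linter.style.haveILetI false
set_option backward.isDefEq.respectTransparency.types false
set_option backward.isDefEq.respectTransparency false

universe u

open CategoryTheory CategoryTheory.Limits AlgebraicGeometry TopologicalSpace Opposite IsLocalRing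

noncomputable section

namespace Groth.L19.ZClos

open _root_.ZClos
open Groth.L18.Frame (rs)
open Groth.L21.Mod (stalkF stalkF_map_germ)
open Groth.L19.ZFam (Fam)

variable {X : Scheme.{u}} {Z : Set X} (F : X.Modules) [Coh.IsQCoh F] {V : X.Opens} (hV : IsAffineOpen V)

/-- The stalk of the sections at a point of the affine open is the localization at the point. -/
theorem isLocalizedModule_fromSpec (q : PrimeSpectrum Γ(X, V)) :
    letI := Groth.L20.ModStalk.stalkModule F (Groth.L19.Ass.fromSpec_mem hV q)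
    IsLocalizedModule q.asIdeal.primeCompl
      (Groth.L20.ModStalk.germₗ F (Groth.L19.Ass.fromSpec_mem hV q)) := by
  letI := Groth.L20.ModStalk.stalkModule F (Groth.L19.Ass.fromSpec_mem hV q)
  have h := Groth.L20.ModStalk.isLocalizedModule_germ F hV (Groth.L19.Ass.fromSpec_mem hV q)
  have e : (hV.primeIdealOf ⟨hV.fromSpec q, Groth.L19.Ass.fromSpec_mem hV q⟩).asIdeal.primeCompl =
      q.asIdeal.primeCompl :=
    congrArg (fun p : PrimeSpectrum Γ(X, V) => p.asIdeal.primeCompl) (Groth.L19.Ass.primeIdealOf_fromSpec hV q _)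
  exact e ▸ h

/-- The germ of a section of the closure in the stalk of the module, off `Z`. -/
def germOff {w : X} (hw : w ∈ V) (hwZ : w ∉ Z) :
    letI := Groth.L20.ModStalk.stalkModule F hw
    Γ((H0 Z).obj F, V) →ₗ[Γ(X, V)] F.presheaf.stalk w :=
  letI := Groth.L20.ModStalk.stalkModule F hw
  { toFun := fun n => (stalkEquivOff F hwZ).symm (((H0 Z).obj F).presheaf.germ V w hw n)
    map_add' := fun a b => by rw [map_add, map_add]
    map_smul' := fun r n =>
      (congrArg (stalkEquivOff F hwZ).symm (Groth.L20.ModStalk.germ_smul _ hw r n)).trans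
        ((stalkEquivOff F hwZ).symm.map_smul _ _) }

/-- A section of the closure has a stalk in the localization at each prime outside `Z`. -/
def offStalk (q : PrimeSpectrum Γ(X, V)) (hq : hV.fromSpec q ∉ Z) :
    Γ((H0 Z).obj F, V) →ₗ[Γ(X, V)] LocalizedModule q.asIdeal.primeCompl Γ(F, V) :=
  letI := Groth.L20.ModStalk.stalkModule F (Groth.L19.Ass.fromSpec_mem hV q)
  haveI := isLocalizedModule_fromSpec F hV q
  (IsLocalizedModule.iso q.asIdeal.primeCompl
    (Groth.L20.ModStalk.germₗ F (Groth.L19.Ass.fromSpec_mem hV q))).symm.toLinearMap.comp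
      (germOff F (Groth.L19.Ass.fromSpec_mem hV q) hq)

variable (q : PrimeSpectrum Γ(X, V)) (hq : hV.fromSpec q ∉ Z)

theorem offStalk_rho (m : Γ(F, V)) :
    offStalk F hV q hq ((rhoApp Z F).app V m) = LocalizedModule.mkLinearMap _ _ m := by
  letI := Groth.L20.ModStalk.stalkModule F (Groth.L19.Ass.fromSpec_mem hV q)
  haveI := isLocalizedModule_fromSpec F hV q
  show (IsLocalizedModule.iso q.asIdeal.primeCompl
    (Groth.L20.ModStalk.germₗ F (Groth.L19.Ass.fromSpec_mem hV q))).symm
      ((stalkEquivOff F hq).symm (((H0 Z).obj F).presheaf.germ V _ (Groth.L19.Ass.fromSpec_mem hV q)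
        ((rhoApp Z F).app V m))) = _
  rw [show (stalkEquivOff F hq).symm (((H0 Z).obj F).presheaf.germ V _ (Groth.L19.Ass.fromSpec_mem hV q)
      ((rhoApp Z F).app V m)) = Groth.L20.ModStalk.germₗ F (Groth.L19.Ass.fromSpec_mem hV q) m from
    (LinearEquiv.symm_apply_eq _).2 (stalkF_map_germ (rhoApp Z F) V _ _ m).symm]
  exact IsLocalizedModule.iso_symm_apply _ _ m

theorem germ_eq_zero_of_offStalk (n : Γ((H0 Z).obj F, V)) (h : offStalk F hV q hq n = 0) :
    ((H0 Z).obj F).presheaf.germ V _ (Groth.L19.Ass.fromSpec_mem hV q) n = 0 := by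
  letI := Groth.L20.ModStalk.stalkModule F (Groth.L19.Ass.fromSpec_mem hV q)
  haveI := isLocalizedModule_fromSpec F hV q
  exact (stalkEquivOff F hq).symm.map_eq_zero_iff.1
    ((IsLocalizedModule.iso q.asIdeal.primeCompl
      (Groth.L20.ModStalk.germₗ F (Groth.L19.Ass.fromSpec_mem hV q))).symm.map_eq_zero_iff.1 h)

variable [IsLocallyNoetherian X]

/-- The family of stalks of a section of the closure. -/
def toFam (hZ : StableUnderSpecialization Z) :
    Γ((H0 Z).obj F, V) →ₗ[Γ(X, V)] Fam Γ(F, V) {q : PrimeSpectrum Γ(X, V) | hV.fromSpec q ∈ Z} where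
  toFun n := ⟨fun q => offStalk F hV q.1 q.2 n, fun y z hzy => by
    haveI : Coh.IsQCoh ((H0 Z).obj F) := Groth.Agent.S5841.result X Z hZ F inferInstance
    obtain ⟨⟨m, s⟩, hm⟩ := IsLocalizedModule.surj y.1.asIdeal.primeCompl
      (LocalizedModule.mkLinearMap y.1.asIdeal.primeCompl Γ(F, V)) (offStalk F hV y.1 y.2 n)
    have hd : offStalk F hV y.1 y.2 ((s : Γ(X, V)) • n - (rhoApp Z F).app V m) = 0 := by
      rw [map_sub, map_smul, sub_eq_zero]
      exact hm.trans (offStalk_rho F hV y.1 y.2 m).symm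
    obtain ⟨c, hc, hc0⟩ := Groth.Agent.S5855.exists_smul_eq_zero ((H0 Z).obj F) hV
      (Groth.L19.Ass.fromSpec_mem hV y.1) (germ_eq_zero_of_offStalk F hV y.1 y.2 _ hd)
    rw [primeIdealOf_fromSpec'] at hc
    rw [smul_sub, smul_smul, ← Scheme.Modules.Hom.app_smul, sub_eq_zero] at hc0
    refine Groth.L19.ZFam.res_eq_of_smul _ hzy _ _ (c * s) (fun h => ?_) (c • m) ?_ ?_
    · exact (z.1.2.mem_or_mem h).elim (fun h => hc (hzy h)) (fun h => s.2 (hzy h))
    · rw [← map_smul, hc0]
      exact offStalk_rho F hV y.1 y.2 _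
    · rw [← map_smul, hc0]
      exact offStalk_rho F hV z.1 z.2 _⟩
  map_add' a b := Subtype.ext (funext fun q => map_add (offStalk F hV q.1 q.2) a b)
  map_smul' r a := Subtype.ext (funext fun q => map_smul (offStalk F hV q.1 q.2) r a)

theorem toFam_injective (hZ : StableUnderSpecialization Z) : Function.Injective (toFam F hV hZ) := by
  refine (injective_iff_map_eq_zero _).2 fun n hn => eq_zero_of_germs hZ F n fun y hy hyZ => ?_
  have hy' : y = hV.fromSpec (hV.primeIdealOf ⟨y, hy⟩) := (hV.fromSpec_primeIdealOf ⟨y, hy⟩).symm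
  have key : ∀ (w : X) (hw : w ∈ V), w = y → ((H0 Z).obj F).presheaf.germ V w hw n = 0 →
      ((H0 Z).obj F).presheaf.germ V y hy n = 0 := by
    rintro w hw rfl h; exact h
  have hyZ' : hV.fromSpec (hV.primeIdealOf ⟨y, hy⟩) ∉ Z := hy' ▸ hyZ
  exact key _ _ hy'.symm (germ_eq_zero_of_offStalk F hV _ hyZ' n
    (congrFun (congrArg Subtype.val hn) ⟨_, hyZ'⟩))

omit [Coh.IsQCoh F] in
/-- Finiteness of the sections of the closure over an affine open. -/
theorem finite_sections_H0 (hZ : StableUnderSpecialization Z) (hF : Coh.IsCoh F)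
    (h : ∀ x : PrimeSpectrum Γ(X, V), x.asIdeal ∈ associatedPrimes Γ(X, V) Γ(F, V) → hV.fromSpec x ∉ Z →
      (∀ y : PrimeSpectrum Γ(X, V), hV.fromSpec y ∈ Z → x.asIdeal ≤ y.asIdeal →
          (2 : ℕ∞) ≤ (y.asIdeal.map (Ideal.Quotient.mk x.asIdeal)).height) ∧
        EGA4.HeightOneHullFinite (Γ(X, V) ⧸ x.asIdeal)) :
    Module.Finite Γ(X, V) Γ((H0 Z).obj F, V) := by
  haveI : Coh.IsQCoh F := hF.1
  haveI : IsNoetherianRing Γ(X, V) := IsLocallyNoetherian.component_noetherian ⟨V, hV⟩
  haveI : Module.Finite Γ(X, V) Γ(F, V) := Groth.L20.ModStalk.finite_sections F hF hV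
  haveI : Module.Finite Γ(X, V) (Fam Γ(F, V) {q : PrimeSpectrum Γ(X, V) | hV.fromSpec q ∈ Z}) :=
    Groth.L19.ZFam.finite_fam Γ(F, V)
      (fun x hx hxZ => ⟨fun y hy => (h x hx hxZ).1 y hy, (h x hx hxZ).2⟩)
      (fun y z hyz hy => hZ (((PrimeSpectrum.le_iff_specializes y z).1 hyz).map hV.fromSpec.continuous) hy)
  haveI : IsNoetherian Γ(X, V) (Fam Γ(F, V) {q : PrimeSpectrum Γ(X, V) | hV.fromSpec q ∈ Z}) :=
    isNoetherian_of_isNoetherianRing_of_finite _ _
  exact Module.Finite.of_injective (toFam F hV hZ) (toFam_injective F hV hZ)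

omit [Coh.IsQCoh F] in
/-- The closure is coherent when the conditions on associated primes hold on an affine cover. -/
theorem isCoh_H0_of_cover (hZ : StableUnderSpecialization Z) (hF : Coh.IsCoh F)
    (h : ∀ p : X, ∃ (V : X.Opens) (hV : IsAffineOpen V), p ∈ V ∧
      ∀ x : PrimeSpectrum Γ(X, V), x.asIdeal ∈ associatedPrimes Γ(X, V) Γ(F, V) → hV.fromSpec x ∉ Z →
      (∀ y : PrimeSpectrum Γ(X, V), hV.fromSpec y ∈ Z → x.asIdeal ≤ y.asIdeal →
          (2 : ℕ∞) ≤ (y.asIdeal.map (Ideal.Quotient.mk x.asIdeal)).height) ∧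
        EGA4.HeightOneHullFinite (Γ(X, V) ⧸ x.asIdeal)) :
    Coh.IsCoh ((H0 Z).obj F) := by
  haveI := Groth.Agent.S5841.result X Z hZ F hF.1
  refine Groth.L16.CohClosedPush.isCoh_of_finite_sections _ fun p => ?_
  obtain ⟨V, hV, hpV, hVp⟩ := h p
  exact ⟨V, hpV, hV, finite_sections_H0 F hV hZ hF hVp⟩

end Groth.L19.ZClos
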