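import Groth.Agent.L19.ZClos.Lift
import Groth.Agent.L02.Canon.FlatBc0
import Groth.Agent.L00.PullStalk
import Groth.Agent.L00.StalkFunctor
import Groth.Agent.S5841
import Groth.Agent.S5851
import Mathlib.Topology.NoetherianSpace

/-!
# The closure commutes with flat pullback
-/

set_option autoImplicit false
set_option linter.style.haveILetI false
set_option backward.isDefEq.respectTransparency.types false
set_option backward.isDefEq.respectTransparency false

universe u

open CategoryTheory CategoryTheory.Limits AlgebraicGeometry TopologicalSpace Opposite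

noncomputable section

namespace Groth.L19.ZClos

open _root_.ZClos
open Groth.L18.Frame (rs rs_rs rs_self)
open Groth.L21.Mod (stalkF stalkF_map_germ)

variable {X X' : Scheme.{u}} (f : X' ⟶ X)

/-- A pullback is bijective on a stalk where the map is. -/
theorem bijective_stalk_pullback_map {P Q : X.Modules} (φ : P ⟶ Q) (y : X')
    (h : Function.Bijective ((stalkF X (f y)).map φ)) :
    Function.Bijective ((stalkF X' y).map ((Scheme.Modules.pullback f).map φ)) := by
  haveI : IsIso ((Groth.L00.Stk.F X (f y)).map φ) :=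
    (ConcreteCategory.isIso_iff_bijective _).2 h
  haveI : IsIso ((Groth.L00.Stk.F X' y).map ((Scheme.Modules.pullback f).map φ)) :=
    (NatIso.isIso_map_iff (Groth.L00.PullStalk.stalkIso f y) φ).2
      (inferInstanceAs (IsIso ((ModuleCat.extendScalars (Groth.L00.PullStalk.φ f y)).map
        ((Groth.L00.Stk.F X (f y)).map φ))))
  exact (ConcreteCategory.isIso_iff_bijective ((Groth.L00.Stk.F X' y).map ((Scheme.Modules.pullback f).map φ))).1
    inferInstance

/-- Modules pushed forward from an open have bijective restrictions to it. -/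
theorem bijective_rs_pushforward (U : X.Opens) (N : U.toScheme.Modules) (V : X.Opens) :
    Function.Bijective (rs ((Scheme.Modules.pushforward U.ι).obj N) (inf_le_left : V ⊓ U ≤ V)) := by
  have e : U.ι ⁻¹ᵁ (V ⊓ U) = U.ι ⁻¹ᵁ V := by
    rw [Scheme.Hom.preimage_inf, Scheme.Opens.ι_preimage_self, inf_top_eq]
  refine ⟨fun a b hab => ?_, fun r => ⟨rs N e.ge r, ?_⟩⟩
  · have h1 := congrArg (rs N e.ge) (show rs N e.le a = rs N e.le b from hab)
    rw [rs_rs, rs_rs] at h1
    simpa [rs_self] using h1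
  · show rs N e.le (rs N e.ge r) = r
    rw [rs_rs]
    exact rs_self N _ r

/-- Isomorphic modules have the same bijective restrictions. -/
theorem bijective_rs_of_iso {P Q : X.Modules} (e : P ≅ Q) {V W : X.Opens} (h : W ≤ V)
    (hP : Function.Bijective (rs P h)) : Function.Bijective (rs Q h) := by
  have he : ∀ O : X.Opens, Function.Bijective (e.hom.app O) := fun O => app_bijective_of_isIso e.hom O
  have : rs Q h ∘ e.hom.app V = e.hom.app W ∘ rs P h :=
    funext fun p => (Groth.L16.EpiFrames.app_rs e.hom h p).symm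
  exact (Function.Bijective.of_comp_iff _ (he V)).1 (this ▸ (he W).comp hP)

variable [IsLocallyNoetherian X] [IsLocallyNoetherian X'] [Flat f] {Z : Set X}

omit [IsLocallyNoetherian X'] in
/-- The pullback of a closed module has bijective restrictions to preimages of complements. -/
theorem bijective_rs_pullback (H : X.Modules) [Coh.IsQCoh H] (hH : IsZClosed Z H) (T : Cl Z) (V : X'.Opens) :
    Function.Bijective (rs ((Scheme.Modules.pullback f).obj H) (inf_le_left : V ⊓ f ⁻¹ᵁ T.U ≤ V)) := by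
  haveI : IsIso (toDiagram Z H T) := (isZClosed_iff H).1 hH T
  haveI : QuasiCompact T.U.ι := inferInstance
  haveI : Coh.IsQCoh (H.restrict T.U.ι) := Scheme.Modules.isQuasicoherent_restrictFunctor _ H
  haveI : IsIso (CohBC.bc0 T.U.ι f (f ⁻¹ᵁ T.U).ι (f ∣_ T.U) (isPullback_morphismRestrict f T.U).w (H.restrict T.U.ι)) :=
    Groth.L02.Canon.FlatBc0.isIso_bc0 (isPullback_morphismRestrict f T.U) (H.restrict T.U.ι)
  exact bijective_rs_of_iso
    ((Scheme.Modules.pullback f).mapIso (asIso (toDiagram Z H T)) ≪≫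
      asIso (CohBC.bc0 T.U.ι f (f ⁻¹ᵁ T.U).ι (f ∣_ T.U) (isPullback_morphismRestrict f T.U).w (H.restrict T.U.ι))).symm
    _ (bijective_rs_pushforward _ _ V)

omit [Flat f] [IsLocallyNoetherian X] in
/-- Over an affine open a closed subset of the preimage lies in the preimage of a member of the index. -/
theorem exists_preimage_bound (hZ : StableUnderSpecialization Z) (T' : Cl (f.base ⁻¹' Z)) {V : X'.Opens}
    (hV : IsAffineOpen V) : ∃ T : Cl Z, V ⊓ f ⁻¹ᵁ T.U ≤ V ⊓ T'.U := by
  classical
  haveI : IsAffine V.toScheme := hV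
  haveI : IsLocallyNoetherian V.toScheme := isLocallyNoetherian_of_isOpenImmersion V.ι
  haveI : AlgebraicGeometry.IsNoetherian V.toScheme := {}
  haveI : NoetherianSpace V.toScheme := inferInstance
  obtain ⟨S, hSfin, hSc, hSi, hS⟩ := NoetherianSpace.exists_finite_set_isClosed_irreducible
    (s := V.ι.base ⁻¹' (T'.1 : Set X')) (T'.1.isClosed.preimage V.ι.continuous)
  choose η hη using fun C : S => QuasiSober.sober (hSi C.1 C.2) (hSc C.1 C.2)
  haveI : Finite S := hSfin.to_subtype
  let T₀ : Closeds X := ⟨⋃ C : S, closure {f.base (V.ι.base (η C))}, isClosed_iUnion_of_finite fun _ => isClosed_closure⟩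
  have hT₀ : (T₀ : Set X) ⊆ Z := by
    intro z hz
    obtain ⟨C, hC⟩ := Set.mem_iUnion.1 hz
    have hmem : η C ∈ V.ι.base ⁻¹' (T'.1 : Set X') := hS ▸ ⟨C.1, C.2, (hη C).mem⟩
    exact hZ (specializes_iff_mem_closure.2 hC) (T'.2 hmem)
  refine ⟨⟨T₀, hT₀⟩, fun x hx => ⟨hx.1, fun hxT => hx.2 ?_⟩⟩
  have : (⟨x, hx.1⟩ : V.toScheme) ∈ ⋃₀ S := hS ▸ (show V.ι.base ⟨x, hx.1⟩ ∈ (T'.1 : Set X') from hxT)
  obtain ⟨C, hC, hxC⟩ := this
  refine Set.mem_iUnion.2 ⟨⟨C, hC⟩, specializes_iff_mem_closure.1 ?_⟩
  exact (((hη ⟨C, hC⟩).specializes hxC).map V.ι.continuous).map f.continuous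

/-- The pullback of a quasi-coherent closed module along a flat morphism is closed. -/
theorem isZClosed_pullback (hZ : StableUnderSpecialization Z) (H : X.Modules) [Coh.IsQCoh H] (hH : IsZClosed Z H) :
    IsZClosed (f.base ⁻¹' Z) ((Scheme.Modules.pullback f).obj H) := by
  refine (isZClosed_iff_basis _ X'.isBasis_affineOpens).2 fun T' V hV => ?_
  obtain ⟨T, hT⟩ := exists_preimage_bound f hZ T' hV
  let G := (Scheme.Modules.pullback f).obj H
  have hb : ∀ O : X'.Opens, Function.Bijective (rs G (inf_le_left : O ⊓ f ⁻¹ᵁ T.U ≤ O)) :=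
    bijective_rs_pullback f H hH T
  refine ⟨fun a b hab => ?_, fun r => ?_⟩
  · refine (hb V).1 ?_
    have h1 := congrArg (rs G hT) (show rs G (inf_le_left : V ⊓ T'.U ≤ V) a = rs G inf_le_left b from hab)
    rw [rs_rs, rs_rs] at h1
    exact h1
  · obtain ⟨t, ht⟩ := (hb V).2 (rs G hT r)
    refine ⟨t, (hb (V ⊓ T'.U)).1 ?_⟩
    show rs G inf_le_left (rs G inf_le_left t) = rs G inf_le_left r
    have h2 : (V ⊓ T'.U) ⊓ f ⁻¹ᵁ T.U ≤ V ⊓ f ⁻¹ᵁ T.U := inf_le_inf_right _ inf_le_left
    have h3 := congrArg (rs G h2) ht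
    rw [rs_rs, rs_rs] at h3
    rw [rs_rs]
    exact h3

/-- The closure commutes with flat pullback. -/
theorem nonempty_pullback_H0_iso (hZ : StableUnderSpecialization Z) (F : X.Modules) [Coh.IsQCoh F] :
    Nonempty ((Scheme.Modules.pullback f).obj ((H0 Z).obj F) ≅
      (H0 (f.base ⁻¹' Z)).obj ((Scheme.Modules.pullback f).obj F)) := by
  haveI : Coh.IsQCoh ((H0 Z).obj F) := Groth.Agent.S5841.result X Z hZ F ‹_›
  have hZ' : StableUnderSpecialization (f.base ⁻¹' Z) := fun a b hab ha => hZ (hab.map f.continuous) ha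
  have hcl := isZClosed_pullback f hZ ((H0 Z).obj F) (isZClosed_H0 hZ F)
  obtain ⟨v, hv, -⟩ := Groth.Agent.S5851.result X' _ hZ' _ _ hcl ((Scheme.Modules.pullback f).map (rhoApp Z F))
  haveI : IsIso v := isIso_fac hZ' hcl _
    (fun y hy => bijective_stalk_pullback_map f (rhoApp Z F) y (bijective_rho_stalk F hy)) v hv
  exact ⟨(asIso v).symm⟩

end Groth.L19.ZClos
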