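import Groth.Agent.L19.ZClos.Closed
import Mathlib.RingTheory.KrullDimension.Module

/-!
# Stalks of modules with full support
-/

set_option autoImplicit false
set_option linter.style.haveILetI false
set_option backward.isDefEq.respectTransparency.types false
set_option backward.isDefEq.respectTransparency false

universe u

open CategoryTheory CategoryTheory.Limits AlgebraicGeometry TopologicalSpace Opposite IsLocalRing

noncomputable section

namespace Groth.L19.ZClos

variable {X : Scheme.{u}} [IsLocallyNoetherian X]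

theorem support_stalk_eq_univ (F : X.Modules) [Coh.IsQCoh F]
    (hs : ∀ x : X, Nontrivial (F.presheaf.stalk x)) (x : X) :
    Module.support (X.presheaf.stalk x) (F.presheaf.stalk x) = Set.univ := by
  refine Set.eq_univ_of_forall fun P => ?_
  obtain ⟨V, hV, hxV, -⟩ := exists_isAffineOpen_mem_and_subset (x := x) (U := (⊤ : X.Opens)) trivial
  letI := X.presheaf.algebra_section_stalk ⟨x, hxV⟩
  haveI := hV.isLocalization_stalk ⟨x, hxV⟩
  let q : PrimeSpectrum Γ(X, V) := PrimeSpectrum.comap (algebraMap Γ(X, V) (X.presheaf.stalk x)) P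
  have hwV : hV.fromSpec q ∈ V := Groth.L19.Ass.fromSpec_mem hV q
  have hwq : (hV.primeIdealOf ⟨_, hwV⟩).asIdeal = q.asIdeal :=
    congrArg PrimeSpectrum.asIdeal (primeIdealOf_fromSpec' hV q)
  haveI := hs (hV.fromSpec q)
  obtain ⟨e, he⟩ := exists_ne (0 : F.presheaf.stalk (hV.fromSpec q))
  obtain ⟨s, m, hs', hm⟩ := exists_smul_eq_germ F hV hwV e
  have hm0 : F.presheaf.germ V _ hwV m ≠ 0 := by
    rw [← hm, Ne, (isUnit_germ hV hwV hs').smul_eq_zero]; exact he
  rw [Module.mem_support_iff']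
  refine ⟨F.presheaf.germ V x hxV m, fun r hr h0 => ?_⟩
  obtain ⟨⟨a, t⟩, hat⟩ := IsLocalization.surj (hV.primeIdealOf ⟨x, hxV⟩).asIdeal.primeCompl r
  have hat' : r * X.presheaf.germ V x hxV (t : Γ(X, V)) = X.presheaf.germ V x hxV a := hat
  have haP : a ∉ q.asIdeal := fun ha => by
    have h1 : X.presheaf.germ V x hxV a ∈ P.asIdeal := ha
    rw [← hat'] at h1
    exact hr ((P.2.mem_or_mem h1).resolve_right fun h2 =>
      P.2.ne_top (Ideal.eq_top_of_isUnit_mem _ h2 (isUnit_germ hV hxV t.2)))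
  have h1 : F.presheaf.germ V x hxV (a • m) = 0 := by
    rw [Groth.L20.ModStalk.germ_smul, ← hat', mul_comm, mul_smul, h0, smul_zero]
  obtain ⟨c, hc, hcm⟩ := Groth.Agent.S5855.exists_smul_eq_zero F hV hxV h1
  have hcq : c ∉ q.asIdeal := fun hh => P.2.ne_top (Ideal.eq_top_of_isUnit_mem _ hh (isUnit_germ hV hxV hc))
  have h2 := congrArg (F.presheaf.germ V _ hwV) hcm
  rw [Groth.L20.ModStalk.germ_smul, Groth.L20.ModStalk.germ_smul, map_zero,
    (isUnit_germ hV hwV (hwq ▸ hcq)).smul_eq_zero, (isUnit_germ hV hwV (hwq ▸ haP)).smul_eq_zero] at h2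
  exact hm0 h2

theorem supportDim_stalk (F : X.Modules) [Coh.IsQCoh F]
    (hs : ∀ x : X, Nontrivial (F.presheaf.stalk x)) (x : X) :
    Module.supportDim (X.presheaf.stalk x) (F.presheaf.stalk x) = ringKrullDim (X.presheaf.stalk x) :=
  Order.krullDim_eq_of_orderIso
    ((OrderIso.setCongr _ _ (support_stalk_eq_univ F hs x)).trans OrderIso.Set.univ)

end Groth.L19.ZClos
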