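import Groth.Prelude.Def_ZClos
import Groth.Agent.L00.StalkFunctor
import Groth.Agent.L21.Mod.Stalks
import Mathlib.CategoryTheory.Limits.Preserves.FunctorCategory
import Mathlib.Algebra.Category.Grp.AB

/-!
# The closure functor is left exact
-/

set_option autoImplicit false
set_option linter.style.haveILetI false
set_option backward.isDefEq.respectTransparency.types false
set_option backward.isDefEq.respectTransparency false

universe u

open CategoryTheory CategoryTheory.Limits AlgebraicGeometry TopologicalSpace Opposite

noncomputable section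

namespace Groth.L19.ZClos

open _root_.ZClos
open Groth.L21.Mod (stalkF)

variable {X : Scheme.{u}} (Z : Set X)

/-- A functor to modules preserves finite limits if its stalks do. -/
theorem preservesFiniteLimits_of_stalks {C : Type*} [Category C] (H : C ⥤ X.Modules)
    (h : ∀ x : X, PreservesFiniteLimits (H ⋙ stalkF X x)) : PreservesFiniteLimits H := by
  refine ⟨fun J _ _ => ⟨fun {K} => ⟨fun {c} hc => ?_⟩⟩⟩
  haveI : IsIso ((limit.isLimit (K ⋙ H)).lift (H.mapCone c)) := by
    rw [Groth.L21.Mod.isIso_iff_stalk]
    intro x
    haveI := h x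
    let S := stalkF X x
    have h1 : IsLimit (S.mapCone (H.mapCone c)) := isLimitOfPreserves (H ⋙ S) hc
    have h2 : IsLimit (S.mapCone (limit.cone (K ⋙ H))) := isLimitOfPreserves S (limit.isLimit _)
    have : S.map ((limit.isLimit (K ⋙ H)).lift (H.mapCone c)) =
        (h1.conePointUniqueUpToIso h2).hom := by
      refine h2.hom_ext fun j => ?_
      rw [IsLimit.conePointUniqueUpToIso_hom_comp]
      show S.map _ ≫ S.map (limit.π (K ⋙ H) j) = S.map ((H.mapCone c).π.app j)
      rw [← S.map_comp]
      exact congrArg S.map ((limit.isLimit (K ⋙ H)).fac (H.mapCone c) j)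
    rw [this]
    infer_instance
  exact ⟨IsLimit.ofIsoLimit (limit.isLimit (K ⋙ H))
    (Cone.ext (asIso ((limit.isLimit (K ⋙ H)).lift (H.mapCone c))) fun j =>
      ((limit.isLimit (K ⋙ H)).fac (H.mapCone c) j).symm).symm⟩

/-- The closure functor preserves finite limits. -/
theorem preservesFiniteLimits_H0 : PreservesFiniteLimits (H0 Z) := by
  haveI hres : ∀ T : Cl Z, PreservesFiniteLimits (resPush T.U) := fun T => by
    haveI : PreservesLimitsOfSize.{0, 0} (Scheme.Modules.pushforward T.U.ι) :=
      (Scheme.Modules.restrictAdjunction T.U.ι).rightAdjoint_preservesLimits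
    haveI : PreservesFiniteLimits (Scheme.Modules.restrictFunctor T.U.ι) := ⟨fun J _ _ => inferInstance⟩
    haveI : PreservesFiniteLimits (Scheme.Modules.pushforward T.U.ι) :=
      PreservesLimitsOfSize.preservesFiniteLimits _
    exact comp_preservesFiniteLimits _ _
  haveI hdiag : PreservesFiniteLimits (diagram Z) := ⟨fun J _ _ => preservesLimitsOfShape_of_evaluation _ J fun T => by
    haveI := hres T
    exact preservesLimitsOfShape_of_natIso (F := resPush T.U)
      (NatIso.ofComponents (fun F => Iso.refl (((diagram Z).obj F).obj T))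
        (fun φ => (Category.comp_id _).trans (Category.id_comp _).symm))⟩
  refine preservesFiniteLimits_of_stalks (H0 Z) fun x => ?_
  let S := stalkF X x
  haveI : PreservesColimitsOfSize.{u, u} S := Groth.L00.Stk.preservesColimits_stalkF x
  haveI : PreservesFiniteLimits ((Functor.whiskeringRight (Cl Z) X.Modules AddCommGrpCat.{u}).obj S) :=
    ⟨fun J _ _ => inferInstance⟩
  haveI : PreservesFiniteLimits (colim : (Cl Z ⥤ AddCommGrpCat.{u}) ⥤ AddCommGrpCat.{u}) := inferInstance
  haveI : PreservesFiniteLimits ((diagram Z) ⋙ (Functor.whiskeringRight (Cl Z) X.Modules AddCommGrpCat.{u}).obj S ⋙ colim) :=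
    comp_preservesFiniteLimits _ _
  exact ⟨fun J _ _ => preservesLimitsOfShape_of_natIso
    ((Functor.associator (diagram Z) colim S) ≪≫ Functor.isoWhiskerLeft (diagram Z) (preservesColimitNatIso S)).symm⟩

end Groth.L19.ZClos
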