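import Groth.Agent.L19.ZClos.Criteria

/-!
# Purity and closedness are local
-/

set_option autoImplicit false
set_option linter.style.haveILetI false
set_option backward.isDefEq.respectTransparency.types false
set_option backward.isDefEq.respectTransparency false

universe u

open CategoryTheory CategoryTheory.Limits AlgebraicGeometry TopologicalSpace Opposite

noncomputable section

namespace Groth.L19.ZClos

open _root_.ZClos
open Groth.L18.Frame (rs rs_rs rs_self)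

variable {X : Scheme.{u}} {Z : Set X} (F : X.Modules) (V : X.Opens)

/-- Restriction along a member of the index, on an open subscheme and on the ambient scheme. -/
theorem res_restrict {T : Cl Z} {T' : Cl (V.ι.base ⁻¹' Z)} (hT : V.ι ⁻¹ᵁ T.U = T'.U) (O : V.toScheme.Opens) :
    (Function.Injective (res ((Scheme.Modules.restrictFunctor V.ι).obj F) T' O) ↔
      Function.Injective (res F T (V.ι ''ᵁ O))) ∧
    (Function.Bijective (res ((Scheme.Modules.restrictFunctor V.ι).obj F) T' O) ↔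
      Function.Bijective (res F T (V.ι ''ᵁ O))) := by
  have e : V.ι ''ᵁ (O ⊓ T'.U) = V.ι ''ᵁ O ⊓ T.U := by
    rw [← hT]
    refine TopologicalSpace.Opens.ext (Set.ext fun x => ⟨?_, ?_⟩)
    · rintro ⟨z, ⟨hzO, hzT⟩, rfl⟩
      exact ⟨⟨z, hzO, rfl⟩, hzT⟩
    · rintro ⟨⟨z, hzO, rfl⟩, hzT⟩
      exact ⟨z, ⟨hzO, hzT⟩, rfl⟩
  have h : (res ((Scheme.Modules.restrictFunctor V.ι).obj F) T' O :
      Γ((Scheme.Modules.restrictFunctor V.ι).obj F, O) → Γ((Scheme.Modules.restrictFunctor V.ι).obj F, O ⊓ T'.U)) =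
      (fun r => rs F e.le r) ∘ res F T (V.ι ''ᵁ O) := by
    funext s
    exact (rs_rs F (inf_le_left : V.ι ''ᵁ O ⊓ T.U ≤ V.ι ''ᵁ O) e.le s).symm
  rw [h]
  exact ⟨(bijective_rs F e).1.of_comp_iff _, (bijective_rs F e).of_comp_iff' _⟩

theorem exists_index_restrict (T : Cl Z) : ∃ T' : Cl (V.ι.base ⁻¹' Z), V.ι ⁻¹ᵁ T.U = T'.U :=
  ⟨⟨⟨V.ι.base ⁻¹' (T.1 : Set X), T.1.isClosed.preimage V.ι.continuous⟩, Set.preimage_mono T.2⟩, rfl⟩

theorem exists_index_extend [IsLocallyNoetherian X] (hZ : StableUnderSpecialization Z)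
    (T' : Cl (V.ι.base ⁻¹' Z)) : ∃ T : Cl Z, V.ι ⁻¹ᵁ T.U = T'.U := by
  let A : Set X := V.ι.base '' (T'.1 : Set V.toScheme)
  have hpre : V.ι.base ⁻¹' closure A = T'.1 :=
    (V.ι.isEmbedding.isInducing.closure_eq_preimage_closure_image _).symm.trans T'.1.isClosed.closure_eq
  refine ⟨Cl.ofLocallyClosed hZ A (V := V) ?_ ?_ ?_, ?_⟩
  · rintro _ ⟨z, -, rfl⟩
    exact z.2
  · rintro y ⟨hy, hyV⟩
    exact ⟨⟨y, hyV⟩, hpre.subset hy, rfl⟩
  · rintro _ ⟨z, hz, rfl⟩
    exact T'.2 hz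
  · refine TopologicalSpace.Opens.ext ?_
    show V.ι.base ⁻¹' (closure A)ᶜ = (T'.1 : Set V.toScheme)ᶜ
    rw [Set.preimage_compl, hpre]

theorem isBasis_subordinate {ι : Type u} (W : ι → X.Opens) (hW : iSup W = ⊤) :
    TopologicalSpace.Opens.IsBasis {O : X.Opens | ∃ i, O ≤ W i} := by
  refine TopologicalSpace.Opens.isBasis_iff_nbhd.2 fun {U x} hx => ?_
  obtain ⟨i, hi⟩ := TopologicalSpace.Opens.mem_iSup.1 (show x ∈ iSup W by rw [hW]; trivial)
  exact ⟨U ⊓ W i, ⟨i, inf_le_right⟩, ⟨hx, hi⟩, inf_le_left⟩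

variable [IsLocallyNoetherian X]

/-- Purity is local. -/
theorem isZPure_iff_restrict (hZ : StableUnderSpecialization Z) {ι : Type u} (W : ι → X.Opens) (hW : iSup W = ⊤) :
    IsZPure Z F ↔ ∀ i, IsZPure ((W i).ι.base ⁻¹' Z) ((Scheme.Modules.restrictFunctor (W i).ι).obj F) := by
  refine ⟨fun h i => (isZPure_iff_res _).2 fun T' O => ?_, fun h => (isZPure_iff_basis F (isBasis_subordinate W hW)).2 ?_⟩
  · obtain ⟨T, hT⟩ := exists_index_extend (W i) hZ T'
    exact (res_restrict F (W i) hT O).1.2 ((isZPure_iff_res F).1 h T _)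
  · rintro T O ⟨i, hi⟩
    obtain ⟨T', hT'⟩ := exists_index_restrict (W i) T
    have e : (W i).ι ''ᵁ (W i).ι ⁻¹ᵁ O = O := (ι_image_preimage _ _).trans (inf_eq_right.2 hi)
    exact e ▸ (res_restrict F (W i) hT' ((W i).ι ⁻¹ᵁ O)).1.1 ((isZPure_iff_res _).1 (h i) T' _)

/-- Closedness is local. -/
theorem isZClosed_iff_restrict (hZ : StableUnderSpecialization Z) {ι : Type u} (W : ι → X.Opens) (hW : iSup W = ⊤) :
    IsZClosed Z F ↔ ∀ i, IsZClosed ((W i).ι.base ⁻¹' Z) ((Scheme.Modules.restrictFunctor (W i).ι).obj F) := by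
  refine ⟨fun h i => (isZClosed_iff_res _).2 fun T' O => ?_, fun h => (isZClosed_iff_basis F (isBasis_subordinate W hW)).2 ?_⟩
  · obtain ⟨T, hT⟩ := exists_index_extend (W i) hZ T'
    exact (res_restrict F (W i) hT O).2.2 ((isZClosed_iff_res F).1 h T _)
  · rintro T O ⟨i, hi⟩
    obtain ⟨T', hT'⟩ := exists_index_restrict (W i) T
    have e : (W i).ι ''ᵁ (W i).ι ⁻¹ᵁ O = O := (ι_image_preimage _ _).trans (inf_eq_right.2 hi)
    exact e ▸ (res_restrict F (W i) hT' ((W i).ι ⁻¹ᵁ O)).2.1 ((isZClosed_iff_res _).1 (h i) T' _)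

end Groth.L19.ZClos
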