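import Groth.Agent.L19.ZClos.ClosedDepth
import Groth.Agent.L19.ZClos.Local
import Groth.Agent.L17.StalkSpread

/-!
# The locus of closedness
-/

set_option autoImplicit false
set_option linter.style.haveILetI false
set_option backward.isDefEq.respectTransparency.types false
set_option backward.isDefEq.respectTransparency false

universe u

open CategoryTheory CategoryTheory.Limits AlgebraicGeometry TopologicalSpace Opposite IsLocalRing

noncomputable section

namespace Groth.L19.ZClos

open _root_.ZClos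
open Groth.L18.Frame (rs rs_rs rs_self)
open Groth.L21.Mod (stalkF stalkF_map_germ)

variable {X : Scheme.{u}} {Z : Set X}

theorem isZClosedAt_of_toDiagram (F : X.Modules) (x : X)
    (h : ∀ T : Cl Z, Function.Bijective ((stalkF X x).map (toDiagram Z F T))) : IsZClosedAt Z F x := by
  haveI : PreservesColimitsOfSize.{u, u} (stalkF X x) := Groth.L00.Stk.preservesColimits_stalkF x
  let hS := isColimitOfPreserves (stalkF X x) (colimit.isColimit ((diagram Z).obj F))
  refine ⟨(injective_iff_map_eq_zero _).2 fun z hz => ?_, fun y => ?_⟩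
  · have hz' : (stalkF X x).map (colimit.ι ((diagram Z).obj F) ⊥) ((stalkF X x).map (toDiagram Z F ⊥) z) = 0 :=
      (rho_stalk_eq F ⊥ x z).symm.trans hz
    obtain ⟨T', f, g, hfg⟩ := (Concrete.isColimit_rep_eq_iff_exists _ hS
      (i := ⊥) (j := ⊥) ((stalkF X x).map (toDiagram Z F ⊥) z) 0).1 (hz'.trans (map_zero _).symm)
    rw [map_zero] at hfg
    have hT : (stalkF X x).map (toDiagram Z F T') z = 0 := by
      rw [← toDiagram_map Z F f]
      exact (congr($((stalkF X x).map_comp (toDiagram Z F ⊥) (((diagram Z).obj F).map f)) z)).trans hfg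
    exact (h T').1 (hT.trans (map_zero _).symm)
  · obtain ⟨T, b, hb⟩ := Concrete.isColimit_exists_rep (((diagram Z).obj F) ⋙ stalkF X x) hS y
    obtain ⟨a, rfl⟩ := (h T).2 b
    exact ⟨a, (rho_stalk_eq F T x a).trans hb⟩

variable [IsLocallyNoetherian X]

theorem bijective_toDiagram_of_closedAt (hZ : StableUnderSpecialization Z) (F : X.Modules) (hF : Coh.IsCoh F)
    {x : X} (hx : IsZClosedAt Z F x) (T : Cl Z) : Function.Bijective ((stalkF X x).map (toDiagram Z F T)) := by
  refine ⟨fun a b hab => hx.1 ?_,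
    surjective_toDiagram_stalk hZ F hF T x (fun w hw hwZ => depth_of_isZClosedAt hZ F hF x hx w hw hwZ)⟩
  show (stalkF X x).map (rhoApp Z F) a = (stalkF X x).map (rhoApp Z F) b
  rw [rho_stalk_eq F T, rho_stalk_eq F T, hab]

/-- The restriction to an open consisting of closed points is closed. -/
theorem isZClosed_restrict_of_closedAt (hZ : StableUnderSpecialization Z) (F : X.Modules) (hF : Coh.IsCoh F)
    (V : X.Opens) (h : ∀ x ∈ V, IsZClosedAt Z F x) :
    IsZClosed (V.ι.base ⁻¹' Z) ((Scheme.Modules.restrictFunctor V.ι).obj F) := by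
  refine (isZClosed_iff_res _).2 fun T' O => ?_
  obtain ⟨T, hT⟩ := exists_index_extend V hZ T'
  refine (res_restrict F V hT O).2.2 ((toDiagram_bijective_iff F T _).1 ?_)
  exact TopCat.Presheaf.app_bijective_of_stalkFunctor_map_bijective
    (F := (Groth.L21.Mod.toAbSh X).obj F) (G := (Groth.L21.Mod.toAbSh X).obj (((diagram Z).obj F).obj T))
    ((Groth.L21.Mod.toAbSh X).map (toDiagram Z F T)) _
    (fun y hy => bijective_toDiagram_of_closedAt hZ F hF (h y (V.ι_image_le O hy)) T)

/-- An open with closed restriction consists of closed points. -/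
theorem closedAt_of_isZClosed_restrict (F : X.Modules)
    (V : X.Opens) (h : IsZClosed (V.ι.base ⁻¹' Z) ((Scheme.Modules.restrictFunctor V.ι).obj F))
    {x : X} (hx : x ∈ V) : IsZClosedAt Z F x := by
  refine isZClosedAt_of_toDiagram F x fun T => ?_
  refine Groth.L19.FPExtend.bijective_stalk_of_basis (toDiagram Z F T) (O := V) X.isBasis_affineOpens
    (fun D _ hD => (toDiagram_bijective_iff F T D).2 ?_) hx
  obtain ⟨T', hT'⟩ := exists_index_restrict V T
  have e : V.ι ''ᵁ V.ι ⁻¹ᵁ D = D := (ι_image_preimage _ _).trans (inf_eq_right.2 hD)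
  exact e ▸ (res_restrict F V hT' (V.ι ⁻¹ᵁ D)).2.1 ((isZClosed_iff_res _).1 h T' _)

/-- With coherent closure, closedness is an open condition. -/
theorem isOpen_closedAt (F : X.Modules) (hF : Coh.IsCoh F) (hH : Coh.IsCoh ((H0 Z).obj F)) :
    IsOpen {x : X | IsZClosedAt Z F x} := by
  refine isOpen_iff_forall_mem_open.2 fun x hx => ?_
  obtain ⟨U, hxU, hU⟩ := Groth.L17.StalkSpread.exists_isIso hH hF (rhoApp Z F) x
    ((ConcreteCategory.isIso_iff_bijective ((stalkF X x).map (rhoApp Z F))).2 hx)
  refine ⟨U, fun y hy => ?_, U.2, hxU⟩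
  refine Groth.L19.FPExtend.bijective_stalk_of_basis (rhoApp Z F) (O := U) X.isBasis_affineOpens (fun D _ hD => ?_) hy
  have hb := app_bijective_of_isIso ((Scheme.Modules.restrictFunctor U.ι).map (rhoApp Z F)) (U.ι ⁻¹ᵁ D)
  have e : U.ι ''ᵁ U.ι ⁻¹ᵁ D = D := (ι_image_preimage _ _).trans (inf_eq_right.2 hD)
  exact e ▸ hb

end Groth.L19.ZClos
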