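import Groth.Agent.L19.Ass.Basic
import Groth.Agent.L06.HullExtension
import Groth.Agent.S1578
import Groth.Prelude.Def_EGA4c

/-!
# The global chart of an affine scheme
-/

set_option autoImplicit false
set_option linter.style.haveILetI false
set_option backward.isDefEq.respectTransparency.types false
set_option backward.isDefEq.respectTransparency false

universe u

open CategoryTheory AlgebraicGeometry TopologicalSpace

noncomputable section

namespace Groth.L19.ZClos

/-- A prime of the global sections is the contraction of its point. -/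
theorem asIdeal_of_top_chart (R : CommRingCat.{u}) (x : PrimeSpectrum Γ(Spec R, ⊤)) :
    x.asIdeal = ((isAffineOpen_top (Spec R)).fromSpec x).asIdeal.comap
      ((Scheme.ΓSpecIso R).commRingCatIsoToRingEquiv : Γ(Spec R, ⊤) →+* R) := by
  rw [IsAffineOpen.fromSpec_top, Scheme.isoSpec_Spec_inv]
  show x.asIdeal = (x.asIdeal.comap (Scheme.ΓSpecIso R).inv.hom).comap _
  rw [Ideal.comap_comap]
  exact (congrArg (fun f => Ideal.comap f x.asIdeal)
    (congrArg CommRingCat.Hom.hom (Scheme.ΓSpecIso R).hom_inv_id)).symm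

/-- The two conditions at a pair of primes are invariant under an isomorphism of rings. -/
theorem conditions_congr {A B : Type u} [CommRing A] [CommRing B] [IsNoetherianRing A] (e : B ≃+* A)
    (q : Ideal A) [q.IsPrime] (x : Ideal B) [x.IsPrime] (hx : x = q.comap (e : B →+* A)) :
    (EGA4.HeightOneHullFinite (A ⧸ q) → EGA4.HeightOneHullFinite (B ⧸ x)) ∧
      ∀ (v : Ideal A) (y : Ideal B), y = v.comap (e : B →+* A) →
        (y.map (Ideal.Quotient.mk x)).height = (v.map (Ideal.Quotient.mk q)).height := by
  have hmap : q.map (e.symm : A →+* B) = x := hx ▸ Ideal.map_symm e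
  let f : A ⧸ q ≃+* B ⧸ x := Ideal.quotientEquiv q x e.symm hmap.symm
  refine ⟨fun h => ?_, fun v y hy => ?_⟩
  · letI : Algebra (A ⧸ q) (B ⧸ x) := f.toRingHom.toAlgebra
    haveI : FaithfulSMul (A ⧸ q) (B ⧸ x) := (faithfulSMul_iff_algebraMap_injective _ _).2 f.injective
    haveI : Module.Finite (A ⧸ q) (B ⧸ x) :=
      Module.Finite.of_surjective (Algebra.linearMap (A ⧸ q) (B ⧸ x)) f.surjective
    exact (Groth.L06.HullExtension.main h (B ⧸ x)).1
  · have he : (v.map (Ideal.Quotient.mk q)).map (f : A ⧸ q →+* B ⧸ x) = y.map (Ideal.Quotient.mk x) := by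
      rw [hy, show v.comap (e : B →+* A) = v.map (e.symm : A →+* B) from (Ideal.map_symm e).symm,
        Ideal.map_map, Ideal.map_map]
      rfl
    rw [← he]
    exact f.height_map _

theorem mem_associatedPrimes_of_top {A : Type u} [CommRing A] [IsNoetherianRing A] (M : Type u) [AddCommGroup M]
    [Module A M] [Coh.IsQCoh (EGA4.tildeOf A M)] [IsLocallyNoetherian (Spec (CommRingCat.of A))]
    (x : PrimeSpectrum Γ(Spec (CommRingCat.of A), ⊤))
    (hx : x.asIdeal ∈ associatedPrimes Γ(Spec (CommRingCat.of A), ⊤) Γ(EGA4.tildeOf A M, ⊤)) :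
    ((isAffineOpen_top (Spec (CommRingCat.of A))).fromSpec x).asIdeal ∈ associatedPrimes A M :=
  (Groth.Agent.S1578.result (CommRingCat.of A) (ModuleCat.of (CommRingCat.of A) M)
    ((isAffineOpen_top (Spec (CommRingCat.of A))).fromSpec x)).2
    ((isNoetherianRing_iff_ideal_fg A).1 inferInstance _)
    (Groth.L19.Ass.fromSpec_mem_ass (EGA4.tildeOf A M) (isAffineOpen_top _) hx)

end Groth.L19.ZClos
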